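import Groth.Agent.CubeLib.Step
import Groth.Agent.ParaFLib.ExtendMain
import Mathlib.RingTheory.Artinian.Ring
import Mathlib.RingTheory.Length

/-!
# The cube theorem over an Artinian local base
-/

set_option autoImplicit false
set_option backward.isDefEq.respectTransparency false
set_option backward.defeqAttrib.useBackward true
set_option linter.style.haveILetI false

universe u

open CategoryTheory CategoryTheory.Limits AlgebraicGeometry TopologicalSpace Opposite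
open Groth.Agent.CohBase Groth.Agent.ProjCoh Groth.Agent.FormalLib
open Groth.Agent.PullbackMod Groth.Agent.ParaFLib Groth.Agent.AmpleLib

noncomputable section

namespace Groth.Agent.CubeLib

theorem Triv.of_iso {X : Scheme.{u}} {L M : X.Modules} (e : L ≅ M) (h : Triv L) : Triv M := by
  obtain ⟨τ, hτ⟩ := h
  exact ⟨_, gen_of_modIso e hτ⟩

theorem triv_structureModule (X : Scheme.{u}) : Triv (Coh.structureModule X) := ⟨_, gen_one ⊤⟩

theorem triv_iff {X : Scheme.{u}} {L : X.Modules} : Triv L ↔ Nonempty (L ≅ Coh.structureModule X) := by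
  refine ⟨fun ⟨τ, hτ⟩ => ?_, fun ⟨e⟩ => (triv_structureModule X).of_iso e.symm⟩
  let φ := DCohLib.secHom L τ
  haveI : IsIso φ := isIso_of_locally_app φ fun _ => ⟨⊤, trivial, fun O hO => by
    rw [show (φ.app O : Γ(X, O) → Γ(L, O)) = fun r : Γ(X, O) => r • resT τ O from funext fun r : Γ(X, O) => by
      rw [← sec_secHom (L := L) τ]; exact app_eq φ O r]
    exact hτ O hO⟩
  exact ⟨(asIso φ).symm⟩

theorem Triv.pullback {X X' : Scheme.{u}} (g : X' ⟶ X) {L : X.Modules} (hL : PicF.IsInvertible L) (h : Triv L) :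
    Triv ((Scheme.Modules.pullback g).obj L) := by
  obtain ⟨τ, hτ⟩ := h
  exact ⟨_, gen_pullMap g hL hτ (le_top : (⊤ : X'.Opens) ≤ g ⁻¹ᵁ ⊤)⟩

theorem triv_pullback_comp_iff {X X' X'' : Scheme.{u}} (g : X'' ⟶ X') (h : X' ⟶ X) {gh : X'' ⟶ X} (e : g ≫ h = gh)
    {L : X.Modules} :
    Triv ((Scheme.Modules.pullback g).obj ((Scheme.Modules.pullback h).obj L)) ↔
      Triv ((Scheme.Modules.pullback gh).obj L) := by
  subst e
  exact ⟨fun t => t.of_iso ((Scheme.Modules.pullbackComp g h).app L),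
    fun t => t.of_iso ((Scheme.Modules.pullbackComp g h).app L).symm⟩

theorem triv_of_isIso {X X' : Scheme.{u}} (g : X' ⟶ X) [IsIso g] {L : X.Modules} (hL : PicF.IsInvertible L)
    (h : Triv ((Scheme.Modules.pullback g).obj L)) : Triv L := by
  have h1 := (triv_pullback_comp_iff (inv g) g (IsIso.inv_hom_id g)).1 (h.pullback (inv g) (isInvertible_pullback g hL))
  exact h1.of_iso ((Scheme.Modules.pullbackId X).app L)

/-- The reduction of a fibre product is the fibre product of the reductions. -/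
theorem isPullback_reduction {R R' : CommRingCat.{u}} {φ : R ⟶ R'} {X Y P X' Y' P' : Scheme.{u}} {fX : X ⟶ Spec R}
    {fY : Y ⟶ Spec R} {p : P ⟶ X} {q : P ⟶ Y} {fX' : X' ⟶ Spec R'} {fY' : Y' ⟶ Spec R'} {fP' : P' ⟶ Spec R'}
    {gX : X' ⟶ X} {gY : Y' ⟶ Y} {gP : P' ⟶ P} (hP : IsPullback p q fX fY)
    (hcX : IsPullback gX fX' fX (Spec.map φ)) (hcY : IsPullback gY fY' fY (Spec.map φ))
    (hcP : IsPullback gP fP' (q ≫ fY) (Spec.map φ)) :
    ∃ (p' : P' ⟶ X') (q' : P' ⟶ Y'), IsPullback p' q' fX' fY' ∧ p' ≫ gX = gP ≫ p ∧ q' ≫ gY = gP ≫ q ∧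
      q' ≫ fY' = fP' := by
  let q' : P' ⟶ Y' := hcY.lift (gP ≫ q) fP' (by rw [Category.assoc, hcP.w])
  let p' : P' ⟶ X' := hcX.lift (gP ≫ p) fP' (by rw [Category.assoc, hP.w, hcP.w])
  have hq : q' ≫ gY = gP ≫ q := hcY.lift_fst _ _ _
  have hq' : q' ≫ fY' = fP' := hcY.lift_snd _ _ _
  have hp : p' ≫ gX = gP ≫ p := hcX.lift_fst _ _ _
  have hp' : p' ≫ fX' = fP' := hcX.lift_snd _ _ _
  have hA : IsPullback gP q' q gY := by
    refine IsPullback.of_bot ?_ hq.symm hcY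
    rw [hq']
    exact hcP
  refine ⟨p', q', IsPullback.of_right ?_ (hp'.trans hq'.symm) hcX, hp, hq, hq'⟩
  rw [hp, ← hcY.w]
  exact hA.paste_horiz hP

section

variable {R : CommRingCat.{u}} [IsArtinianRing R] [IsLocalRing R] {k : Type u} [Field k] {φ₀ : R ⟶ CommRingCat.of k}

theorem ker_eq_maximalIdeal (hφ₀ : Function.Surjective φ₀.hom) : RingHom.ker φ₀.hom = IsLocalRing.maximalIdeal R := by
  haveI := RingHom.ker_isMaximal_of_surjective φ₀.hom hφ₀
  exact IsLocalRing.eq_maximalIdeal ‹_›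

theorem bijective_of_maximalIdeal_eq_bot (hφ₀ : Function.Surjective φ₀.hom) (h : IsLocalRing.maximalIdeal R = ⊥) :
    IsIso φ₀ :=
  (ConcreteCategory.isIso_iff_bijective φ₀).2
    ⟨(RingHom.injective_iff_ker_eq_bot _).2 ((ker_eq_maximalIdeal hφ₀).trans h), hφ₀⟩

theorem exists_smallExt (hφ₀ : Function.Surjective φ₀.hom) (h : IsLocalRing.maximalIdeal R ≠ ⊥) :
    ∃ (R' : CommRingCat.{u}) (_ : IsArtinianRing R') (_ : IsLocalRing R') (φ : R ⟶ R') (φ₀' : R' ⟶ CommRingCat.of k)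
      (ε : R), φ ≫ φ₀' = φ₀ ∧ Function.Surjective φ₀'.hom ∧ SmallExt φ φ₀ ε ∧
        Module.length R' R' + 1 ≤ Module.length R R := by
  classical
  let m := IsLocalRing.maximalIdeal R
  obtain ⟨N, hN⟩ : ∃ N, m ^ N = ⊥ := by
    obtain ⟨N, hN⟩ := IsArtinianRing.isNilpotent_jacobson_bot (R := R)
    rw [IsLocalRing.jacobson_eq_maximalIdeal ⊥ bot_ne_top] at hN
    exact ⟨N, hN⟩
  let n := Nat.find (⟨N, hN⟩ : ∃ N, m ^ N = ⊥)
  have hn : m ^ n = ⊥ := Nat.find_spec (⟨N, hN⟩ : ∃ N, m ^ N = ⊥)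
  have hn2 : 2 ≤ n := by
    by_contra h2
    interval_cases hn' : n
    · rw [pow_zero, Ideal.one_eq_top] at hn
      exact bot_ne_top hn.symm
    · rw [pow_one] at hn
      exact h hn
  have hn1 : m ^ (n - 1) ≠ ⊥ := Nat.find_min (⟨N, hN⟩ : ∃ N, m ^ N = ⊥) (by omega)
  obtain ⟨ε, hεm, hε0⟩ := Submodule.exists_mem_ne_zero_of_ne_bot hn1
  have hεm' : ε ∈ m := Ideal.pow_le_self (by omega) hεm
  have hmul : ∀ a ∈ m, ε * a = 0 := fun a ha => by
    have := Ideal.mul_mem_mul hεm ha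
    rw [← pow_succ, show n - 1 + 1 = n by omega, hn] at this
    exact this
  let R' := CommRingCat.of (R ⧸ Ideal.span {ε})
  have hle : Ideal.span {ε} ≤ m := (Ideal.span_singleton_le_iff_mem _).2 hεm'
  haveI : Nontrivial (R ⧸ Ideal.span {ε}) :=
    Ideal.Quotient.nontrivial_iff.2 fun e => (IsLocalRing.maximalIdeal.isMaximal R).ne_top (top_le_iff.1 (e ▸ hle))
  let φ : R ⟶ R' := CommRingCat.ofHom (Ideal.Quotient.mk (Ideal.span {ε}))
  let φ₀' : R' ⟶ CommRingCat.of k := CommRingCat.ofHom (Ideal.Quotient.lift (Ideal.span {ε}) φ₀.hom fun a ha => by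
    rw [← RingHom.mem_ker, ker_eq_maximalIdeal hφ₀]; exact hle ha)
  refine ⟨R', (Ideal.Quotient.mk_surjective (I := Ideal.span {ε})).isArtinianRing,
    IsLocalRing.of_surjective' _ (Ideal.Quotient.mk_surjective (I := Ideal.span {ε})), φ, φ₀', ε, rfl,
    fun c => ?_, ⟨Ideal.Quotient.mk_surjective, hφ₀, ?_, ?_, fun a => ?_, hmul ε hεm'⟩, ?_⟩
  · obtain ⟨r, rfl⟩ := hφ₀ c
    exact ⟨φ r, rfl⟩
  · exact Ideal.Quotient.eq_zero_iff_mem.2 (Ideal.mem_span_singleton_self ε)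
  · intro r hr
    obtain ⟨a, rfl⟩ := Ideal.mem_span_singleton.1 (Ideal.Quotient.eq_zero_iff_mem.1 hr)
    exact ⟨a, rfl⟩
  · rw [← RingHom.mem_ker, ker_eq_maximalIdeal hφ₀]
    refine ⟨fun e => ?_, hmul a⟩
    by_contra ha
    have hu : IsUnit a := not_not.1 ha
    exact hε0 (hu.mul_left_eq_zero.1 e)
  · let I : Submodule R R := Ideal.span {ε}
    rw [Module.length_eq_add_of_exact I.subtype I.mkQ (Submodule.subtype_injective _) (Submodule.mkQ_surjective _)
      (LinearMap.exact_subtype_mkQ I), add_comm (Module.length R I)]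
    refine add_le_add (le_of_eq ?_) ?_
    · exact (Module.length_eq_of_surjective (R := R ⧸ Ideal.span {ε}) (M := R ⧸ Ideal.span {ε}) (S := R)
        Ideal.Quotient.mk_surjective).symm
    · haveI : Nontrivial I := ⟨⟨ε, Ideal.mem_span_singleton_self ε⟩, 0, fun e => hε0 (congrArg Subtype.val e)⟩
      exact Order.one_le_iff_ne_zero.2 (Module.length_pos (R := R) (M := I)).ne'

end

theorem surjective_specMap {R R' : CommRingCat.{u}} [IsArtinianRing R] [IsLocalRing R] [Nontrivial R'] (φ : R ⟶ R') :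
    Surjective (Spec.map φ) := ⟨fun z => by
  obtain ⟨w⟩ : Nonempty (PrimeSpectrum R') := inferInstance
  exact ⟨w, Subsingleton.elim (α := PrimeSpectrum R) _ _⟩⟩

theorem isConst_artin_aux {k : Type u} [Field k] : ∀ (n : ℕ) {R : CommRingCat.{u}} [IsArtinianRing R] [IsLocalRing R]
    {φ₀ : R ⟶ CommRingCat.of k}, Module.length R R ≤ n → Function.Surjective φ₀.hom →
    ∀ {X X₀ : Scheme.{u}} {f : X ⟶ Spec R} [Flat f] [IsSeparated f] {f₀ : X₀ ⟶ Spec (CommRingCat.of k)} {g₀ : X₀ ⟶ X},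
      IsPullback g₀ f₀ f (Spec.map φ₀) → IsConst f₀ → IsConst f
  | 0, R, _, _, φ₀, hn, _, _, _, _, _, _, _, _, _, _ => absurd (nonpos_iff_eq_zero.1 hn) (Module.length_pos (R := R) (M := R)).ne'
  | n + 1, R, _, _, φ₀, hn, hφ₀, X, X₀, f, _, _, f₀, g₀, hc₀, h₀ => by
    by_cases hm : IsLocalRing.maximalIdeal R = ⊥
    · haveI := bijective_of_maximalIdeal_eq_bot hφ₀ hm
      haveI : IsIso g₀ := hc₀.isIso_fst_of_isIso
      intro F
      obtain ⟨c, hc⟩ := h₀ (ap g₀ (le_top : (⊤ : X₀.Opens) ≤ g₀ ⁻¹ᵁ ⊤) F)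
      obtain ⟨r, rfl⟩ := hφ₀ c
      refine ⟨r, (ConcreteCategory.bijective_of_isIso g₀.appTop).1 ?_⟩
      show g₀.appTop.hom _ = g₀.appTop.hom F
      have e1 : g₀.appTop.hom = ap g₀ (le_top : (⊤ : X₀.Opens) ≤ g₀ ⁻¹ᵁ ⊤) := by
        show _ = (g₀.appLE ⊤ (g₀ ⁻¹ᵁ ⊤) le_rfl).hom
        rw [Scheme.Hom.appLE_eq_app]
      rw [e1, ap_secHom hc₀.w, hc]
    · obtain ⟨R', _, _, φ, φ₀', ε, hφ, hφ', S, hlen⟩ := exists_smallExt hφ₀ hm
      let g := Limits.pullback.fst f (Spec.map φ)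
      let f' := Limits.pullback.snd f (Spec.map φ)
      have hc : IsPullback g f' f (Spec.map φ) := IsPullback.of_hasPullback _ _
      haveI : Flat f' := MorphismProperty.of_isPullback hc ‹Flat f›
      haveI : IsSeparated f' := MorphismProperty.of_isPullback hc ‹IsSeparated f›
      let g₀' := hc.lift g₀ (f₀ ≫ Spec.map φ₀') (by rw [hc₀.w, Category.assoc, ← Spec.map_comp, hφ])
      have hc₀' : IsPullback g₀' f₀ f' (Spec.map φ₀') := by
        refine IsPullback.of_right ?_ (hc.lift_snd _ _ _) hc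
        rw [hc.lift_fst, ← Spec.map_comp, hφ]
        exact hc₀
      exact S.isConst hc hc₀ (isConst_artin_aux n (R := R')
        ((ENat.add_le_add_iff_right ENat.one_ne_top).1 (by simpa using hlen.trans hn)) hφ' hc₀' h₀) h₀

/-- Over an Artinian local base, all functions are constant if they are so on the closed fibre. -/
theorem isConst_artin {k : Type u} [Field k] {R : CommRingCat.{u}} [IsArtinianRing R] [IsLocalRing R]
    {φ₀ : R ⟶ CommRingCat.of k} (hφ₀ : Function.Surjective φ₀.hom) {X X₀ : Scheme.{u}} {f : X ⟶ Spec R} [Flat f]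
    [IsSeparated f] {f₀ : X₀ ⟶ Spec (CommRingCat.of k)} {g₀ : X₀ ⟶ X}
    (hc₀ : IsPullback g₀ f₀ f (Spec.map φ₀)) (h₀ : IsConst f₀) : IsConst f := by
  obtain ⟨n, hn⟩ := ENat.ne_top_iff_exists.1 (Module.length_ne_top (R := R) (M := R))
  exact isConst_artin_aux n hn.symm.le hφ₀ hc₀ h₀

theorem triv_artin_aux {k : Type u} [Field k] : ∀ (n : ℕ) {R : CommRingCat.{u}} [IsArtinianRing R] [IsLocalRing R]
    {φ₀ : R ⟶ CommRingCat.of k}, Module.length R R ≤ n → Function.Surjective φ₀.hom →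
    ∀ {X Y P X₀ Y₀ P₀ : Scheme.{u}} {fX : X ⟶ Spec R} {fY : Y ⟶ Spec R} [Flat fX] [Flat fY] [IsSeparated fX]
      [IsSeparated fY] [QuasiCompact fX] [QuasiCompact fY] {p : P ⟶ X} {q : P ⟶ Y}
      {fX₀ : X₀ ⟶ Spec (CommRingCat.of k)} {fY₀ : Y₀ ⟶ Spec (CommRingCat.of k)} {fP₀ : P₀ ⟶ Spec (CommRingCat.of k)}
      {gX₀ : X₀ ⟶ X} {gY₀ : Y₀ ⟶ Y} {gP₀ : P₀ ⟶ P}, IsPullback p q fX fY →
      IsPullback gX₀ fX₀ fX (Spec.map φ₀) → IsPullback gY₀ fY₀ fY (Spec.map φ₀) →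
      IsPullback gP₀ fP₀ (q ≫ fY) (Spec.map φ₀) → IsConst fX₀ → IsConst fY₀ →
      ∀ (x : Spec R ⟶ X) (_ : x ≫ fX = 𝟙 _) (y : Spec R ⟶ Y) (_ : y ≫ fY = 𝟙 _)
        (s : Y ⟶ P) (_ : s ≫ p = fY ≫ x) (_ : s ≫ q = 𝟙 Y) (t : X ⟶ P) (_ : t ≫ p = 𝟙 X) (_ : t ≫ q = fX ≫ y)
        (L : P.Modules) (_ : PicF.IsInvertible L), Triv ((Scheme.Modules.pullback s).obj L) →
        Triv ((Scheme.Modules.pullback t).obj L) → Triv ((Scheme.Modules.pullback gP₀).obj L) → Triv L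
  | 0, R, _, _, φ₀, hn, _, _, _, _, _, _, _, _, _, _, _, _, _, _, _, _, _, _, _, _, _, _, _, _, _, _, _, _, _, _, _, _, _, _, _, _, _, _, _, _, _, _, _, _ => absurd (nonpos_iff_eq_zero.1 hn) (Module.length_pos (R := R) (M := R)).ne'
  | n + 1, R, _, _, φ₀, hn, hφ₀, X, Y, P, X₀, Y₀, P₀, fX, fY, _, _, _, _, _, _, p, q, fX₀, fY₀, fP₀, gX₀, gY₀, gP₀,
      hP, hcX₀, hcY₀, hcP₀, hX₀, hY₀, x, hx, y, hy, s, hsp, hsq, t, htp, htq, L, hL, hs, ht, h₀ => by
    by_cases hm : IsLocalRing.maximalIdeal R = ⊥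
    · haveI := bijective_of_maximalIdeal_eq_bot hφ₀ hm
      haveI : IsIso gP₀ := hcP₀.isIso_fst_of_isIso
      exact triv_of_isIso gP₀ hL h₀
    · obtain ⟨R', _, _, φ, φ₀', ε, hφ, hφ', S, hlen⟩ := exists_smallExt hφ₀ hm
      let gX := Limits.pullback.fst fX (Spec.map φ)
      let gY := Limits.pullback.fst fY (Spec.map φ)
      let gP := Limits.pullback.fst (q ≫ fY) (Spec.map φ)
      let fX' := Limits.pullback.snd fX (Spec.map φ)
      let fY' := Limits.pullback.snd fY (Spec.map φ)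
      let fP' := Limits.pullback.snd (q ≫ fY) (Spec.map φ)
      have hcX : IsPullback gX fX' fX (Spec.map φ) := IsPullback.of_hasPullback _ _
      have hcY : IsPullback gY fY' fY (Spec.map φ) := IsPullback.of_hasPullback _ _
      have hcP : IsPullback gP fP' (q ≫ fY) (Spec.map φ) := IsPullback.of_hasPullback _ _
      haveI : Flat fX' := MorphismProperty.of_isPullback hcX ‹Flat fX›
      haveI : Flat fY' := MorphismProperty.of_isPullback hcY ‹Flat fY›
      haveI : IsSeparated fX' := MorphismProperty.of_isPullback hcX ‹IsSeparated fX›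
      haveI : IsSeparated fY' := MorphismProperty.of_isPullback hcY ‹IsSeparated fY›
      haveI : QuasiCompact fX' := MorphismProperty.of_isPullback hcX ‹QuasiCompact fX›
      haveI : QuasiCompact fY' := MorphismProperty.of_isPullback hcY ‹QuasiCompact fY›
      haveI := surjective_specMap φ
      have hgP : Surjective gP := MorphismProperty.of_isPullback hcP.flip ‹Surjective (Spec.map φ)›
      obtain ⟨p', q', hP', hp', hq', hqf'⟩ := isPullback_reduction hP hcX hcY hcP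
      have key : ∀ {Z Z₀ : Scheme.{u}} {f : Z ⟶ Spec R} {g₀ : Z₀ ⟶ Z} {f₀ : Z₀ ⟶ Spec (CommRingCat.of k)}
          (_ : IsPullback g₀ f₀ f (Spec.map φ₀)) {Z' : Scheme.{u}} {g : Z' ⟶ Z} {f' : Z' ⟶ Spec R'}
          (_ : IsPullback g f' f (Spec.map φ)),
          ∃ g₀' : Z₀ ⟶ Z', g₀' ≫ g = g₀ ∧ IsPullback g₀' f₀ f' (Spec.map φ₀') :=
        fun {Z Z₀ f g₀ f₀} hc₀ {Z' g f'} hc => by
          refine ⟨hc.lift g₀ (f₀ ≫ Spec.map φ₀') (by rw [hc₀.w, Category.assoc, ← Spec.map_comp, hφ]),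
            hc.lift_fst _ _ _, IsPullback.of_right ?_ (hc.lift_snd _ _ _) hc⟩
          rw [hc.lift_fst, ← Spec.map_comp, hφ]
          exact hc₀
      obtain ⟨gX₀', -, hcX₀'⟩ := key hcX₀ hcX
      obtain ⟨gY₀', -, hcY₀'⟩ := key hcY₀ hcY
      obtain ⟨gP₀', hgP₀', hcP₀'⟩ := key hcP₀ hcP
      have hlen' : Module.length R' R' ≤ n :=
        (ENat.add_le_add_iff_right ENat.one_ne_top).1 (by simpa using hlen.trans hn)
      let x' := hcX.lift (Spec.map φ ≫ x) (𝟙 _) (by rw [Category.assoc, hx, Category.comp_id, Category.id_comp])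
      let y' := hcY.lift (Spec.map φ ≫ y) (𝟙 _) (by rw [Category.assoc, hy, Category.comp_id, Category.id_comp])
      have hsP : s ≫ q ≫ fY = fY := by rw [← Category.assoc, hsq, Category.id_comp]
      have htP : t ≫ q ≫ fY = fX := by rw [← Category.assoc, htq, Category.assoc, hy, Category.comp_id]
      let s' := hcP.lift (gY ≫ s) fY' (by rw [Category.assoc, hsP, hcY.w])
      let t' := hcP.lift (gX ≫ t) fX' (by rw [Category.assoc, htP, hcX.w])
      have hs1 : s' ≫ gP = gY ≫ s := hcP.lift_fst _ _ _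
      have hs2 : s' ≫ fP' = fY' := hcP.lift_snd _ _ _
      have ht1 : t' ≫ gP = gX ≫ t := hcP.lift_fst _ _ _
      have ht2 : t' ≫ fP' = fX' := hcP.lift_snd _ _ _
      have hX' : IsConst fX' := isConst_artin hφ' hcX₀' hX₀
      have hY' : IsConst fY' := isConst_artin hφ' hcY₀' hY₀
      have hpf' : p' ≫ fX' = fP' := hP'.w.trans hqf'
      refine S.triv_step hP hcX hcY hcP hgP.surj hcX₀ hcY₀ hcP₀ hX' hY' hX₀ hY₀ x hx y hy s hsp hsq t htp htq L hL hs ht ?_
      refine triv_artin_aux n (R := R') hlen' hφ' hP' hcX₀' hcY₀' (hqf' ▸ hcP₀') hX₀ hY₀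
        x' (hcX.lift_snd _ _ _) y' (hcY.lift_snd _ _ _) s' ?_ ?_ t' ?_ ?_ _ (isInvertible_pullback gP hL) ?_ ?_ ?_
      · refine hcX.hom_ext ?_ ?_
        · rw [Category.assoc, Category.assoc, hp', hcX.lift_fst, ← Category.assoc, hs1, Category.assoc, hsp,
            ← Category.assoc, hcY.w, Category.assoc]
        · rw [Category.assoc, Category.assoc, hpf', hs2, hcX.lift_snd, Category.comp_id]
      · refine hcY.hom_ext ?_ ?_
        · rw [Category.assoc, hq', ← Category.assoc, hs1, Category.assoc, hsq, Category.comp_id, Category.id_comp]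
        · rw [Category.assoc, hqf', hs2, Category.id_comp]
      · refine hcX.hom_ext ?_ ?_
        · rw [Category.assoc, hp', ← Category.assoc, ht1, Category.assoc, htp, Category.comp_id, Category.id_comp]
        · rw [Category.assoc, hpf', ht2, Category.id_comp]
      · refine hcY.hom_ext ?_ ?_
        · rw [Category.assoc, Category.assoc, hq', hcY.lift_fst, ← Category.assoc, ht1, Category.assoc, htq,
            ← Category.assoc, hcX.w, Category.assoc]
        · rw [Category.assoc, Category.assoc, hqf', ht2, hcY.lift_snd, Category.comp_id]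
      · exact (triv_pullback_comp_iff s' gP hs1).2
          ((triv_pullback_comp_iff gY s rfl).1 (hs.pullback gY (isInvertible_pullback s hL)))
      · exact (triv_pullback_comp_iff t' gP ht1).2
          ((triv_pullback_comp_iff gX t rfl).1 (ht.pullback gX (isInvertible_pullback t hL)))
      · exact (triv_pullback_comp_iff gP₀' gP hgP₀').2 h₀

/-- The cube theorem over an Artinian local base. -/
theorem triv_artin {k : Type u} [Field k] {R : CommRingCat.{u}} [IsArtinianRing R] [IsLocalRing R]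
    {φ₀ : R ⟶ CommRingCat.of k} (hφ₀ : Function.Surjective φ₀.hom) {X Y P X₀ Y₀ P₀ : Scheme.{u}}
    {fX : X ⟶ Spec R} {fY : Y ⟶ Spec R} [Flat fX] [Flat fY] [IsSeparated fX] [IsSeparated fY] [QuasiCompact fX]
    [QuasiCompact fY] {p : P ⟶ X} {q : P ⟶ Y} {fX₀ : X₀ ⟶ Spec (CommRingCat.of k)}
    {fY₀ : Y₀ ⟶ Spec (CommRingCat.of k)} {fP₀ : P₀ ⟶ Spec (CommRingCat.of k)} {gX₀ : X₀ ⟶ X} {gY₀ : Y₀ ⟶ Y}
    {gP₀ : P₀ ⟶ P} (hP : IsPullback p q fX fY)
    (hcX₀ : IsPullback gX₀ fX₀ fX (Spec.map φ₀)) (hcY₀ : IsPullback gY₀ fY₀ fY (Spec.map φ₀))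
    (hcP₀ : IsPullback gP₀ fP₀ (q ≫ fY) (Spec.map φ₀)) (hX₀ : IsConst fX₀) (hY₀ : IsConst fY₀)
    (x : Spec R ⟶ X) (hx : x ≫ fX = 𝟙 _) (y : Spec R ⟶ Y) (hy : y ≫ fY = 𝟙 _)
    (s : Y ⟶ P) (hsp : s ≫ p = fY ≫ x) (hsq : s ≫ q = 𝟙 Y) (t : X ⟶ P) (htp : t ≫ p = 𝟙 X) (htq : t ≫ q = fX ≫ y)
    (L : P.Modules) (hL : PicF.IsInvertible L) (hs : Triv ((Scheme.Modules.pullback s).obj L))
    (ht : Triv ((Scheme.Modules.pullback t).obj L)) (h₀ : Triv ((Scheme.Modules.pullback gP₀).obj L)) : Triv L := by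
  obtain ⟨n, hn⟩ := ENat.ne_top_iff_exists.1 (Module.length_ne_top (R := R) (M := R))
  exact triv_artin_aux n hn.symm.le hφ₀ hP hcX₀ hcY₀ hcP₀ hX₀ hY₀ x hx y hy s hsp hsq t htp htq L hL hs ht h₀

end Groth.Agent.CubeLib
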