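import Groth.Agent.CubeLib.Artin
import Groth.Agent.BCLib.TrivNhd
import Groth.Agent.BCLib.SteinNbhd
import Groth.Agent.AmpleEmb.Misc
import Groth.Agent.MonoFibre.RigidityProper

/-!
# Triviality of invertible modules on the fibres
-/

set_option autoImplicit false
set_option backward.isDefEq.respectTransparency false
set_option backward.defeqAttrib.useBackward true
set_option linter.style.haveILetI false

universe u

open CategoryTheory CategoryTheory.Limits MonoidalCategory CartesianMonoidalCategory AlgebraicGeometry TopologicalSpace Opposite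
open Groth.Agent.CohBase Groth.Agent.ProjCoh Groth.Agent.FormalLib Groth.Agent.PullbackMod Groth.Agent.ParaFLib
  Groth.Agent.AmpleLib

noncomputable section

namespace Groth.Agent.CubeLib

theorem exists_gen_point {X : Scheme.{u}} [IsReduced X] {L : X.Modules} (hL : PicF.IsInvertible L) {σ : Γ(L, ⊤)}
    (hσ : σ ≠ 0) : ∃ x : X, Function.Bijective fun r : X.presheaf.stalk x => r • L.presheaf.germ ⊤ x trivial σ := by
  by_contra h
  refine hσ (TopCat.Presheaf.section_ext (⟨L.presheaf, L.isSheaf⟩ : TopCat.Sheaf Ab.{u} X.carrier) ⊤ σ 0 fun x hx => ?_)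
  obtain ⟨W, e, hxW, he⟩ := exists_gen_nhd hL x
  obtain ⟨a, ha⟩ := (he W le_rfl).2 (resT σ W)
  simp only [ParaFLib.res_self] at ha
  have hbot : X.basicOpen a = ⊥ := by
    refine eq_bot_iff.2 fun y hy => h ⟨y, ?_⟩
    have hyW : y ∈ W := X.basicOpen_le a hy
    have := ((AmpleLib.bijective_smul_iff (he.bijective_germ y hyW) _).2 ((X.mem_basicOpen a y hyW).1 hy))
    rw [← germ_smul', ha] at this
    simpa only [resT, TopCat.Presheaf.germ_res_apply] using this
  rw [basicOpen_eq_bot_iff] at hbot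
  rw [hbot, zero_smul] at ha
  show L.presheaf.germ ⊤ x hx σ = L.presheaf.germ ⊤ x hx 0
  rw [← TopCat.Presheaf.germ_res_apply L.presheaf (homOfLE (le_top : W ≤ ⊤)) x hxW σ,
    show L.presheaf.map (homOfLE (le_top : W ≤ ⊤)).op σ = 0 from ha.symm, map_zero, map_zero]

/-- On an integral scheme with only constant functions, nonzero sections of `L` and of its inverse
trivialise `L`. -/
theorem triv_of_sections {X : Scheme.{u}} [IsIntegral X] (hfield : IsField Γ(X, ⊤)) {L N : X.Modules}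
    (hL : PicF.IsInvertible L) (hN : PicF.IsInvertible N) (e : CohB1.tensorMod L N ≅ Coh.structureModule X)
    {σ : Γ(L, ⊤)} {τ : Γ(N, ⊤)} (hσ : σ ≠ 0) (hτ : τ ≠ 0) : Triv L := by
  let U : X.Opens := CohB1.genLocus L (DCohLib.secHom L σ)
  let U' : X.Opens := CohB1.genLocus N (DCohLib.secHom N τ)
  obtain ⟨x₁, hx₁⟩ := exists_gen_point hL hσ
  obtain ⟨x₂, hx₂⟩ := exists_gen_point hN hτ
  have h₁ : x₁ ∈ U := (mem_genLocus_iff hL).2 (by rwa [sec_secHom])
  have h₂ : x₂ ∈ U' := (mem_genLocus_iff hN).2 (by rwa [sec_secHom])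
  obtain ⟨y, hy⟩ : ((U : Set X) ∩ U').Nonempty :=
    nonempty_preirreducible_inter U.isOpen U'.isOpen ⟨x₁, h₁⟩ ⟨x₂, h₂⟩
  let φ := tensorS (DCohLib.secHom L σ) (DCohLib.secHom N τ) ≫ e.hom
  have key : X.basicOpen (sec φ) = U ⊓ U' := by
    refine Eq.trans ?_ ((genLocus_comp_iso _ e).trans (genLocus_tensorS hL hN _ _))
    exact (AmpleEmb.genLocus_secHom_unit (sec φ)).symm.trans (congrArg (CohB1.genLocus _) (secHom_sec φ))
  have hne : (sec φ : Γ(X, ⊤)) ≠ 0 := fun h0 => by
    have hyb : y ∈ X.basicOpen (sec φ : Γ(X, ⊤)) := key.ge hy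
    rw [h0, Scheme.basicOpen_zero] at hyb
    exact hyb
  obtain ⟨b, hb⟩ := hfield.mul_inv_cancel hne
  have htop : X.basicOpen (sec φ) = ⊤ := Scheme.basicOpen_of_isUnit _ (IsUnit.of_mul_eq_one b hb)
  refine ⟨σ, ?_⟩
  have hU : (⊤ : X.Opens) ≤ U := htop.ge.trans (key.le.trans inf_le_left)
  have h3 := BCLib.gen_of_le_genLocus hL (DCohLib.secHom L σ) hU
  rw [sec_secHom] at h3
  simpa only [resT, ParaFLib.res_self] using h3

variable {X Y : Scheme.{u}} (f : X ⟶ Y) [IsProper f]

theorem isClosed_fiberRank_pos [Flat f] [IsLocallyNoetherian Y] {F : X.Modules} (hF : PicF.IsInvertible F) :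
    IsClosed {y : Y | 0 < CohIII.fiberRank f F 0 y} := by
  haveI := Groth.Agent.InvExt.isQCoh_of_isInvertible hF
  rw [← isOpen_compl_iff, isOpen_iff_mem_nhds]
  intro y hy
  replace hy : CohIII.fiberRank f F 0 y < 1 := by
    simp only [Set.mem_compl_iff, Set.mem_setOf_eq, not_lt, Nat.le_zero] at hy
    omega
  obtain ⟨_, ⟨W : Y.Opens, (hW : IsAffineOpen W), rfl⟩, hyW, -⟩ :=
    Y.isBasis_affineOpens.exists_subset_of_mem_open (Set.mem_univ y) isOpen_univ
  obtain ⟨q, rfl⟩ : ∃ q, hW.fromSpec q = y := ⟨_, hW.fromSpec_primeIdealOf ⟨y, hyW⟩⟩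
  letI : (f ⁻¹ᵁ W : Scheme.{u}).Over (Spec (CommRingCat.of Γ(Y, W))) := ⟨BCLib.restOver f hW⟩
  haveI : IsNoetherianRing Γ(Y, W) := IsLocallyNoetherian.component_noetherian ⟨W, hW⟩
  haveI hpr : IsProper (BCLib.restOver f hW) := BCLib.isProper_restOver f hW
  haveI : IsProper (str Γ(Y, W) (f ⁻¹ᵁ W : Scheme.{u})) := hpr
  haveI hfl : Flat (BCLib.restOver f hW) := MorphismProperty.of_isPullback (BCLib.isPullback_restOver f hW) inferInstance
  haveI : Flat (str Γ(Y, W) (f ⁻¹ᵁ W : Scheme.{u})) := hfl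
  haveI : IsLocallyNoetherian (f ⁻¹ᵁ W : Scheme.{u}) := LocallyOfFiniteType.isLocallyNoetherian (BCLib.restOver f hW)
  have hFW := AmpleLib.isInvertible_pullback (f ⁻¹ᵁ W).ι hF
  haveI : Coh.IsQCoh (BCLib.restMod f F) := Groth.Agent.InvExt.isQCoh_of_isInvertible hFW
  obtain ⟨ι, hι, V, hcov, haff, L, ψ, hfin, hflat, -, -, hψ⟩ := BCLib.exists_cover_bij (A := Γ(Y, W))
    (F := BCLib.restMod f F) (CurveLib.isCoh_of_isInvertible hFW)
    (TildePerf.isFlatOver_of_isFinLocFree _ (CurveLib.isFinLocFree_of_isInvertible hFW))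
  have hk : ∀ z : Spec Γ(Y, W), CohIII.fiberRank f F 0 (hW.fromSpec z) =
      FlatCx.kdim (L.δ 0) z.asIdeal.ResidueField := fun z =>
    (BCLib.fiberRank_restOver f hW F 0 z).symm.trans
      (BCLib.fiberRank_eq_kdim_aux (R := Γ(Y, W)) V (BCLib.restMod f F) hcov haff ψ hψ hfin 0 z).1
  rw [hk] at hy
  obtain ⟨O, hO, hOo, hqO⟩ := _root_.mem_nhds_iff.1 (L.kdim_δ_upperSemicontinuous hfin hflat 0 q 1 hy)
  refine Filter.mem_of_superset ((hW.fromSpec.isOpenEmbedding.isOpenMap _ hOo).mem_nhds ⟨q, hqO, rfl⟩) ?_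
  rintro _ ⟨z, hz, rfl⟩
  show ¬ 0 < CohIII.fiberRank f F 0 (hW.fromSpec z)
  rw [hk]
  have : FlatCx.kdim (L.δ 0) z.asIdeal.ResidueField < 1 := hO hz
  exact not_lt.2 (Nat.lt_one_iff.1 this).le

theorem exists_ne_zero_of_fiberRank_pos {F : X.Modules} (y : Y) (h : 0 < CohIII.fiberRank f F 0 y) :
    ∃ σ : Γ((Scheme.Modules.pullback (f.fiberι y)).obj F, ⊤), σ ≠ 0 := by
  letI : (f.fiber y).Over (Spec (CommRingCat.of (Y.residueField y))) := ⟨f.fiberToSpecResidueField y⟩
  haveI : Nontrivial (CohIII.fiberH f F y 0) := Module.nontrivial_of_finrank_pos h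
  obtain ⟨v, hv⟩ := exists_ne (0 : CohIII.fiberH f F y 0)
  let e := BCLib.gammaH0 (A := Y.residueField y) ((Scheme.Modules.pullback (f.fiberι y)).obj F)
  refine ⟨e.symm v, fun h0 => hv ?_⟩
  exact e.symm.injective (h0.trans (map_zero e.symm).symm)

theorem fiberRank_eq_one_of_triv {F : X.Modules} (y : Y)
    (hy : Function.Bijective (algebraMap (Y.residueField y) Γ(f.fiber y, ⊤)))
    (h : Triv ((Scheme.Modules.pullback (f.fiberι y)).obj F)) : CohIII.fiberRank f F 0 y = 1 := by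
  obtain ⟨e⟩ := triv_iff.1 h
  letI : (f.fiber y).Over (Spec (CommRingCat.of (Y.residueField y))) := ⟨f.fiberToSpecResidueField y⟩
  refine Eq.trans ?_ (BCLib.finrank_fiberH_zero f y hy)
  exact (BCLib.hhEquivL (A := Y.residueField y) (e ≪≫ (pullUnit (f.fiberι y)).symm) 0).finrank_eq

theorem universallyClosed_fiber (y : Y) : UniversallyClosed (f.fiberToSpecResidueField y) :=
  MorphismProperty.pullback_snd f (Y.fromSpecResidueField y) inferInstance

theorem isIntegral_fiber [GeometricallyIntegral f] (y : Y) : IsIntegral (f.fiber y) := inferInstance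

theorem triv_fiber_of_fiberRank_pos [GeometricallyIntegral f] {L N : X.Modules} (hL : PicF.IsInvertible L)
    (hN : PicF.IsInvertible N) (e : CohB1.tensorMod L N ≅ Coh.structureModule X) (y : Y)
    (h1 : 0 < CohIII.fiberRank f L 0 y) (h2 : 0 < CohIII.fiberRank f N 0 y) :
    Triv ((Scheme.Modules.pullback (f.fiberι y)).obj L) := by
  haveI := isIntegral_fiber f y
  obtain ⟨σ, hσ⟩ := exists_ne_zero_of_fiberRank_pos f y h1
  obtain ⟨τ, hτ⟩ := exists_ne_zero_of_fiberRank_pos f y h2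
  haveI := universallyClosed_fiber f y
  exact triv_of_sections (isField_of_universallyClosed (Y.residueField y) (f.fiberToSpecResidueField y))
    (isInvertible_pullback _ hL) (isInvertible_pullback _ hN)
    ((pullTensor (f.fiberι y) L N).symm ≪≫ (Scheme.Modules.pullback (f.fiberι y)).mapIso e ≪≫ pullO _) hσ hτ

theorem bijective_fiber_of_section [GeometricallyIntegral f] (σ : Y ⟶ X) (hσ : σ ≫ f = 𝟙 Y) (y : Y) :
    Function.Bijective (algebraMap (Y.residueField y) Γ(f.fiber y, ⊤)) := by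
  haveI := isIntegral_fiber f y
  haveI := universallyClosed_fiber f y
  let Xy : Over (Spec (CommRingCat.of (Y.residueField y))) := Over.mk (f.fiberToSpecResidueField y)
  haveI : IsIntegral Xy.left := ‹IsIntegral (f.fiber y)›
  haveI : UniversallyClosed Xy.hom := inferInstanceAs (UniversallyClosed (f.fiberToSpecResidueField y))
  let s : 𝟙_ (Over (Spec (CommRingCat.of (Y.residueField y)))) ⟶ Xy :=
    Over.homMk (pullback.lift (Y.fromSpecResidueField y ≫ σ) (𝟙 _)
      (by rw [Category.assoc, hσ, Category.comp_id, Category.id_comp])) (pullback.lift_snd _ _ _)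
  exact MonoFibre.Rigidity.bijective_of_ratPt s

/-- Fibrewise triviality over a dense set of points gives fibrewise triviality everywhere. -/
theorem triv_fiber_of_dense [Flat f] [GeometricallyIntegral f] [IsLocallyNoetherian Y] (σ : Y ⟶ X)
    (hσ : σ ≫ f = 𝟙 Y) {L : X.Modules} (hL : PicF.IsInvertible L) {S : Set Y} (hS : Dense S)
    (h : ∀ y ∈ S, Triv ((Scheme.Modules.pullback (f.fiberι y)).obj L)) (y : Y) :
    Triv ((Scheme.Modules.pullback (f.fiberι y)).obj L) := by
  obtain ⟨N, hN, ⟨e⟩⟩ := AmpleEmb.exists_isInverseOf hL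
  have hNy : ∀ y ∈ S, Triv ((Scheme.Modules.pullback (f.fiberι y)).obj N) := fun y hy => by
    obtain ⟨i⟩ := triv_iff.1 (h y hy)
    let g := f.fiberι y
    exact triv_iff.2 ⟨(unitL _).symm ≪≫ AmpleLib.tIso i.symm (Iso.refl _) ≪≫ (pullTensor g L N).symm ≪≫
      (Scheme.Modules.pullback g).mapIso e ≪≫ pullO g⟩
  have key : ∀ M : X.Modules, PicF.IsInvertible M →
      (∀ y ∈ S, Triv ((Scheme.Modules.pullback (f.fiberι y)).obj M)) → 0 < CohIII.fiberRank f M 0 y := fun M hM hMy =>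
    (isClosed_fiberRank_pos f hM).closure_subset_iff.2
      (fun z hz => Nat.one_pos.trans_eq (fiberRank_eq_one_of_triv f z (bijective_fiber_of_section f σ hσ z) (hMy z hz)).symm)
      (hS y)
  exact triv_fiber_of_fiberRank_pos f hL hN e y (key L hL h) (key N hN hNy)

end Groth.Agent.CubeLib
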