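import Groth.Agent.CubeLib.LocalTriv
import Groth.Agent.CubeLib.SeesawPoint
import Groth.Agent.BCLib.Semi

/-!
# The seesaw principle
-/

set_option autoImplicit false
set_option backward.isDefEq.respectTransparency false
set_option backward.defeqAttrib.useBackward true
set_option linter.style.haveILetI false

universe u

open CategoryTheory CategoryTheory.Limits AlgebraicGeometry TopologicalSpace Opposite TensorProduct
open Groth.Agent.CohBase Groth.Agent.ProjCoh Groth.Agent.FormalLib Groth.Agent.PullbackMod Groth.Agent.ParaFLib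
  Groth.Agent.AmpleLib

noncomputable section

namespace Groth.Agent.CubeLib

theorem exists_cycle_lift_of_flat {A : Type u} [CommRing A] (x : PrimeSpectrum A) (L : BCLib.Cx A)
    (h1 : Module.Flat A (L.X 1)) (hq : Module.Flat A (L.X 1 ⧸ LinearMap.range (L.d 0)))
    (z : x.asIdeal.ResidueField ⊗[A] L.X 0) (hz : (L.d 0).baseChange x.asIdeal.ResidueField z = 0) :
    ∃ (c : x.asIdeal.ResidueField) (l : L.X 0), c ≠ 0 ∧ L.d 0 l = 0 ∧
      c • z = (1 : x.asIdeal.ResidueField) ⊗ₜ[A] l := by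
  have hz' : TensorProduct.comm A _ _ z ∈ LinearMap.ker ((L.d 0).rTensor x.asIdeal.ResidueField) := by
    refine LinearMap.mem_ker.2 ?_
    have : ∀ w, (L.d 0).rTensor x.asIdeal.ResidueField (TensorProduct.comm A _ _ w) =
        TensorProduct.comm A _ _ ((L.d 0).baseChange x.asIdeal.ResidueField w) := fun w => by
      induction w using TensorProduct.induction_on with
      | zero => simp
      | tmul a b => simp
      | add a b ha hb => simp only [map_add, ha, hb]
    rw [this, hz, map_zero]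
  rw [← (FlatCx.kerTensor_injective_range (L.d 0) _).2] at hz'
  obtain ⟨w, hw⟩ := hz'
  have hz'' : z = TensorProduct.comm A _ _ ((LinearMap.ker (L.d 0)).subtype.rTensor x.asIdeal.ResidueField w) := by
    rw [hw, ← TensorProduct.comm_symm, LinearEquiv.symm_apply_apply]
  subst hz''
  clear hz hw
  induction w using TensorProduct.induction_on with
  | zero => exact ⟨1, 0, one_ne_zero, map_zero _, by simp⟩
  | tmul l c =>
    obtain ⟨a, b, hb, hab⟩ := IsFractionRing.div_surjective (A ⧸ x.asIdeal) c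
    obtain ⟨a, rfl⟩ := Ideal.Quotient.mk_surjective a
    obtain ⟨b, rfl⟩ := Ideal.Quotient.mk_surjective b
    have hb0 : algebraMap A x.asIdeal.ResidueField b ≠ 0 := by
      rw [Ne, Ideal.algebraMap_residueField_eq_zero, ← Ideal.Quotient.eq_zero_iff_mem]
      exact nonZeroDivisors.ne_zero hb
    refine ⟨algebraMap A _ b, a • l.1, hb0, by rw [map_smul, LinearMap.mem_ker.1 l.2, smul_zero], ?_⟩
    have hq : ∀ t : A, algebraMap (A ⧸ x.asIdeal) x.asIdeal.ResidueField (Ideal.Quotient.mk x.asIdeal t) =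
        algebraMap A x.asIdeal.ResidueField t := fun t =>
      (IsScalarTower.algebraMap_apply A (A ⧸ x.asIdeal) x.asIdeal.ResidueField t).symm
    rw [LinearMap.rTensor_tmul, TensorProduct.comm_tmul, TensorProduct.smul_tmul', tmul_smul,
      TensorProduct.smul_tmul', ← hab, hq, hq,
      smul_eq_mul, mul_div_cancel₀ _ hb0, Algebra.smul_def, mul_one, Submodule.subtype_apply]
  | add u v hu hv =>
    obtain ⟨c, l, hc, hl, e⟩ := hu
    obtain ⟨c', l', hc', hl', e'⟩ := hv
    obtain ⟨a, b, hb, hab⟩ := IsFractionRing.div_surjective (A ⧸ x.asIdeal) (c'⁻¹ / c⁻¹)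
    obtain ⟨a, rfl⟩ := Ideal.Quotient.mk_surjective a
    obtain ⟨b, rfl⟩ := Ideal.Quotient.mk_surjective b
    have hb0 : algebraMap A x.asIdeal.ResidueField b ≠ 0 := by
      rw [Ne, Ideal.algebraMap_residueField_eq_zero, ← Ideal.Quotient.eq_zero_iff_mem]
      exact nonZeroDivisors.ne_zero hb
    rw [show ∀ t : A, algebraMap (A ⧸ x.asIdeal) x.asIdeal.ResidueField (Ideal.Quotient.mk x.asIdeal t) =
        algebraMap A x.asIdeal.ResidueField t from fun t =>
      (IsScalarTower.algebraMap_apply A (A ⧸ x.asIdeal) x.asIdeal.ResidueField t).symm] at hab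
    rw [show ∀ t : A, algebraMap (A ⧸ x.asIdeal) x.asIdeal.ResidueField (Ideal.Quotient.mk x.asIdeal t) =
        algebraMap A x.asIdeal.ResidueField t from fun t =>
      (IsScalarTower.algebraMap_apply A (A ⧸ x.asIdeal) x.asIdeal.ResidueField t).symm] at hab
    refine ⟨algebraMap A _ b * c, b • l + a • l', mul_ne_zero hb0 hc,
      by rw [map_add, map_smul, map_smul, hl, hl', smul_zero, smul_zero, add_zero], ?_⟩
    have hcc : algebraMap A x.asIdeal.ResidueField b * c = algebraMap A x.asIdeal.ResidueField a * c' := by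
      field_simp at hab
      linear_combination -hab
    rw [map_add, map_add, smul_add, tmul_add, tmul_smul, tmul_smul, ← e, ← e', ← algebraMap_smul (x.asIdeal.ResidueField) b,
      ← algebraMap_smul (x.asIdeal.ResidueField) a, ← mul_smul, ← mul_smul, ← hcc]

/-- Over a reduced base with constant `h⁰`, sections of a fibre lift up to a unit. -/
theorem exists_lift_fibre_reduced {R : CommRingCat.{u}} [IsNoetherianRing R] [IsReduced R] {X : Scheme.{u}}
    [X.Over (Spec (CommRingCat.of R))] [IsProper (str R X)] {F : X.Modules} (hF : Coh.IsCoh F)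
    (hfl : FlatMod.IsFlatOver (str R X) F) (x : Spec R)
    (h0 : IsLocallyConstant fun y : Spec R => CohIII.fiberRank (str R X) F 0 y)
    (σ : Γ((Scheme.Modules.pullback ((str R X).fiberι x)).obj F, ⊤)) :
    ∃ (s : Γ(F, ⊤)) (c : Γ((str R X).fiber x, ⊤)), IsUnit c ∧
      pullMap ((str R X).fiberι x) F (W := ⊤) (W' := ⊤) le_top s = c • σ := by
  haveI hq : Coh.IsQCoh F := hF.1
  obtain ⟨ι, hι, V, hcov, haff, L, ψ, hfin, hflat, -, -, hψ⟩ := BCLib.exists_cover_bij (A := R) hF hfl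
  let K := (Spec R).residueField x
  let φ : R ⟶ K :=
    CommRingCat.ofHom (algebraMap R x.asIdeal.ResidueField) ≫ (Scheme.Spec.residueFieldIso R x).inv
  letI : ((str R X).fiber x).Over (Spec (CommRingCat.of K)) := ⟨(str R X).fiberToSpecResidueField x⟩
  let g' := (str R X).fiberι x
  have hc : IsPullback g' (str K ((str R X).fiber x)) (str R X) (Spec.map φ) := by
    rw [BCLib.fromSpecResidueField_eq]
    exact IsPullback.of_hasPullback _ _
  letI := φ.hom.toAlgebra
  haveI hq1 : Module.Flat R (L.X 1 ⧸ LinearMap.range (L.d 0)) :=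
    (L.flat_quot_of_kdim_isLocallyConstant hfin hflat 0 (by
      have : (fun y : PrimeSpectrum R => FlatCx.kdim (L.δ 0) y.asIdeal.ResidueField) =
          fun y : Spec R => CohIII.fiberRank (str R X) F 0 y :=
        funext fun y => (BCLib.fiberRank_eq_kdim_aux (R := R) V F hcov haff ψ hψ hfin 0 y).1.symm
      exact this.symm ▸ h0)).2
  let e : x.asIdeal.ResidueField ≃ₐ[R] K :=
    AlgEquiv.ofRingEquiv (f := (Scheme.Spec.residueFieldIso R x).symm.commRingCatIsoToRingEquiv) fun _ => rfl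
  let G' := (Scheme.Modules.pullback g').obj F
  let V' := ProperFin.preCov g' V
  have hcov' : (⊤ : ((str R X).fiber x).Opens) ≤ iSup V' := fun y _ => by
    obtain ⟨b, hb⟩ := Opens.mem_iSup.1 (hcov (show g' y ∈ (⊤ : X.Opens) from trivial))
    exact Opens.mem_iSup.2 ⟨b, hb⟩
  letI := Module.compHom (Coch (str K ((str R X).fiber x)) G' V' 0) φ.hom
  haveI : IsScalarTower R K (Coch (str K ((str R X).fiber x)) G' V' 0) := .of_algebraMap_smul fun _ _ => rfl
  letI := Module.compHom (Coch (str K ((str R X).fiber x)) G' V' 1) φ.hom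
  haveI : IsScalarTower R K (Coch (str K ((str R X).fiber x)) G' V' 1) := .of_algebraMap_smul fun _ _ => rfl
  let e₀ : ∀ n, (BCLib.cechCx R V F).X n ≃ₗ[R] Coch (str R X) F V n :=
    fun n => BCLib.cochEquiv V (BCLib.tensorASelfIso R F) n
  have he₀ : ∀ n y, dL (str R X) F V n (e₀ n y) = e₀ (n + 1) ((BCLib.cechCx R V F).d n y) := fun n y => dL_cochMap V _ n y
  let Θ₀ := (e₀ 0).baseChange R K ≪≫ₗ (BCLib.isBaseChange_pullCoch g' φ hc V F haff 0).equiv
  let Θ₁ := (e₀ 1).baseChange R K ≪≫ₗ (BCLib.isBaseChange_pullCoch g' φ hc V F haff 1).equiv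
  have hΘ : ∀ z, dL (str K ((str R X).fiber x)) G' V' 0 (Θ₀ z) = Θ₁ (((BCLib.cechCx R V F).d 0).baseChange K z) := fun z => by
    induction z using TensorProduct.induction_on with
    | zero => simp only [map_zero]
    | tmul b c =>
      simp only [Θ₀, Θ₁, LinearEquiv.trans_apply, LinearMap.baseChange_tmul, LinearEquiv.baseChange_tmul]
      refine (congrArg _ (IsBaseChange.equiv_tmul (BCLib.isBaseChange_pullCoch g' φ hc V F haff 0) b (e₀ 0 c))).trans ?_
      refine Eq.trans ?_ (IsBaseChange.equiv_tmul (BCLib.isBaseChange_pullCoch g' φ hc V F haff 1) b _).symm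
      exact (map_smul (dL (str K ((str R X).fiber x)) G' V' 0) b _).trans
        (congrArg (b • ·) ((BCLib.dL_pullCoch g' φ hc V F 0 _).trans (congrArg _ (he₀ 0 c))))
    | add a b ha hb => simp only [map_add, ha, hb]
  let c' : Coch (str K ((str R X).fiber x)) G' V' 0 := aug V' (Coh.toAb G').obj (fun _ => le_top) σ
  have hc' : dL (str K ((str R X).fiber x)) G' V' 0 c' = 0 := (dL_eq _ _ _ _ _).trans (cdiff_aug _ _ _)
  have hzK : Θ₀.symm c' ∈ (BCLib.cechCx R V F).zBC K 0 := LinearMap.mem_ker.2 (Θ₁.injective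
    ((hΘ _).symm.trans ((congrArg _ (Θ₀.apply_symm_apply c')).trans (hc'.trans (map_zero _).symm))))
  obtain ⟨zL, hzL, hzL'⟩ := (ψ.bijBC K (hψ K) 0).1 _ hzK
  have hzL'' : (ψ.f 0).baseChange K zL = Θ₀.symm c' := (sub_eq_zero.1 ((Submodule.mem_bot K).1 hzL')).symm
  let E : ∀ n, K ⊗[R] L.X n ≃ₗ[R] x.asIdeal.ResidueField ⊗[R] L.X n :=
    fun n => TensorProduct.congr e.symm.toLinearEquiv (LinearEquiv.refl R _)
  have hE : ∀ w, (L.d 0).baseChange x.asIdeal.ResidueField (E 0 w) = E 1 ((L.d 0).baseChange K w) := fun w => by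
    induction w using TensorProduct.induction_on with
    | zero => simp
    | tmul b c => rfl
    | add a b ha hb => simp only [map_add, ha, hb]
  obtain ⟨cK, l, hcK, hdl, hcl⟩ := exists_cycle_lift_of_flat x L (hflat 1) hq1 (E 0 zL)
    ((hE zL).trans ((congrArg (E 1) (LinearMap.mem_ker.1 hzL)).trans (map_zero _)))
  have hEs : ∀ (b : x.asIdeal.ResidueField) w, E 0 (e b • w) = b • E 0 w := fun b w => by
    induction w using TensorProduct.induction_on with
    | zero => simp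
    | tmul a c =>
      show e.symm (e b * a) ⊗ₜ[R] c = (b * e.symm a) ⊗ₜ[R] c
      rw [map_mul, e.symm_apply_apply]
    | add a c ha hc => simp only [smul_add, map_add, ha, hc]
  have hcl' : e cK • zL = (1 : K) ⊗ₜ[R] l := (E 0).injective ((hEs cK zL).trans (hcl.trans (by
    show _ = e.symm 1 ⊗ₜ[R] l
    rw [map_one])))
  let k₀ : Coch (str R X) F V 0 := e₀ 0 (ψ.f 0 l)
  have hk₀ : cdiff V (Coh.toAb F).obj 0 k₀ = 0 := by
    rw [← dL_eq (p := str R X) (M := F), he₀ 0, ψ.comm_apply 0 l, hdl, map_zero, map_zero]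
  obtain ⟨s, hs⟩ := aug_exact (Coh.toAb F) (V := ⊤) (fun _ => le_top) hcov k₀ hk₀
  refine ⟨s, (BCLib.secHom (str K ((str R X).fiber x)) ⊤).hom (e cK),
    ((map_ne_zero_iff e e.injective).2 hcK).isUnit.map _, ?_⟩
  refine aug_injective (Coh.toAb G') (U := V') (fun _ => le_top) hcov' (funext fun i => ?_)
  have h2 : Θ₀ (e cK • Θ₀.symm c') = BCLib.pullCoch g' φ hc V F 0 k₀ := by
    rw [← hzL'', ← map_smul, hcl', LinearMap.baseChange_tmul]
    simp only [Θ₀, LinearEquiv.trans_apply, LinearEquiv.baseChange_tmul]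
    exact (IsBaseChange.equiv_tmul _ _ _).trans (one_smul _ _)
  rw [map_smul, LinearEquiv.apply_symm_apply] at h2
  refine Eq.trans ?_ ((congrFun h2.symm i).trans ?_)
  · show res _ _ (pullMap g' F _ s) = pullMap g' F _ (k₀ i)
    rw [← hs]
    exact pullMap_res g' F _ _ _ _ _
  · show (e cK • c' i : Sec _ G' (inter V' i)) = res _ _ ((BCLib.secHom (str K ((str R X).fiber x)) ⊤).hom (e cK) • σ)
    refine Eq.trans ?_ (G'.map_smul _ _ _).symm
    refine Eq.trans ?_ (congrArg (· • _) (res_φV (Coh.toGlobal (A := K) ((str R X).fiberToSpecResidueField x)) _ (e cK)).symm)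
    rfl


/-- Over a reduced affine base with constant `h⁰`, a basis on a fibre comes from a section generating near it. -/
theorem exists_sec_gen_fibre_reduced {R : CommRingCat.{u}} [IsNoetherianRing R] [IsReduced R] {X : Scheme.{u}}
    [X.Over (Spec (CommRingCat.of R))] [IsProper (str R X)] [Flat (str R X)] {P : X.Modules}
    (hP : PicF.IsInvertible P) (q : Spec R)
    (h0 : IsLocallyConstant fun y : Spec R => CohIII.fiberRank (str R X) P 0 y)
    (e : Triv ((Scheme.Modules.pullback ((str R X).fiberι q)).obj P)) :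
    ∃ t : Coh.structureModule X ⟶ P, ∀ x : X, str R X x = q → x ∈ CohB1.genLocus P t := by
  haveI : IsLocallyNoetherian X := LocallyOfFiniteType.isLocallyNoetherian (str R X)
  haveI := Groth.Agent.InvExt.isQCoh_of_isInvertible hP
  let g := (str R X).fiberι q
  obtain ⟨σ, hσ⟩ := e
  obtain ⟨s, c, hc, hs⟩ := exists_lift_fibre_reduced (CurveLib.isCoh_of_isInvertible hP)
    (TildePerf.isFlatOver_of_isFinLocFree _ (CurveLib.isFinLocFree_of_isInvertible hP)) q h0 σ
  refine ⟨DCohLib.secHom P s, fun x hx => ?_⟩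
  obtain ⟨z, rfl⟩ : ∃ z, g z = x := by
    have : x ∈ Set.range g := by rw [(str R X).range_fiberι q]; exact hx
    exact this
  rw [mem_genLocus_iff hP, sec_secHom]
  have hσ' := hσ.bijective_germ z trivial
  obtain ⟨b, hb⟩ := exists_stalk_gen hP (g z)
  obtain ⟨a, ha⟩ := hb.2 (P.presheaf.germ ⊤ (g z) trivial s)
  change a • b = _ at ha
  rw [← ha, AmpleLib.bijective_smul_iff hb]
  have key : g.stalkMap z a • pullStalk g P z b =
      ((str R X).fiber q).presheaf.germ ⊤ z trivial c •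
        ((Scheme.Modules.pullback g).obj P).presheaf.germ ⊤ z trivial σ := by
    rw [← pullStalk_smul, ha, pullStalk_germ' g P z (W := ⊤) (W' := ⊤) trivial trivial le_top, hs, germ_smul']
  have hbij := bijective_pullStalk g z hb
  have h2 : Function.Bijective fun r : ((str R X).fiber q).presheaf.stalk z =>
      r • g.stalkMap z a • pullStalk g P z b := by
    rw [key]
    exact (AmpleLib.bijective_smul_iff hσ' _).2 (hc.map _)
  exact isUnit_of_map_unit (g.stalkMap z).hom a ((AmpleLib.bijective_smul_iff hbij _).1 h2)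

variable {X Y : Scheme.{u}} (f : X ⟶ Y) [IsProper f]

/-- A section generating along a fibre gives a basis over a neighbourhood. -/
theorem exists_gen_nhd_of_sec {W : Y.Opens} (hW : IsAffineOpen W) (q : Spec Γ(Y, W)) {P : X.Modules}
    (hP : PicF.IsInvertible P) (t : Coh.structureModule (f ⁻¹ᵁ W : Scheme.{u}) ⟶ BCLib.restMod f P)
    (ht : ∀ x, BCLib.restOver f hW x = q → x ∈ CohB1.genLocus _ t) :
    ∃ U : Y.Opens, hW.fromSpec q ∈ U ∧ ∃ s : Γ(P, f ⁻¹ᵁ U), Gen (f ⁻¹ᵁ U) s := by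
  let j := (f ⁻¹ᵁ W).ι
  let G : X.Opens := j ''ᵁ CohB1.genLocus _ t
  have hyW : hW.fromSpec q ∈ W := by
    have : hW.fromSpec q ∈ Set.range hW.fromSpec := ⟨q, rfl⟩
    rwa [hW.range_fromSpec] at this
  have hG : ∀ x : X, f x = hW.fromSpec q → x ∈ G := fun x hx => by
    have hxW : x ∈ f ⁻¹ᵁ W := show f x ∈ W by rw [hx]; exact hyW
    refine ⟨⟨x, hxW⟩, ht _ (hW.fromSpec.isOpenEmbedding.injective ?_), rfl⟩
    show hW.fromSpec (BCLib.restOver f hW ⟨x, hxW⟩) = _
    rw [← Scheme.Hom.comp_apply, ← (BCLib.isPullback_restOver f hW).w, Scheme.Hom.comp_apply]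
    exact hx
  obtain ⟨U₀, hyU, hU₀⟩ := BCLib.exists_open_preimage_le f G (hW.fromSpec q) hG
  refine ⟨U₀ ⊓ W, ⟨hyU, hyW⟩, ?_⟩
  let a : (f ⁻¹ᵁ W : Scheme.{u}).Opens := j ⁻¹ᵁ (f ⁻¹ᵁ (U₀ ⊓ W))
  have ha : a ≤ CohB1.genLocus _ t := fun z hz => by
    obtain ⟨z', hz', e⟩ := hU₀ (f.preimage_mono inf_le_left hz)
    exact j.isOpenEmbedding.injective e ▸ hz'
  have hgen := BCLib.gen_of_le_genLocus (AmpleLib.isInvertible_pullback j hP) t ha
  have h2 := (AmpleLib.gen_restrict_iff j P a _).1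
    (gen_of_modIso ((Scheme.Modules.restrictFunctorIsoPullback j).app P).symm hgen)
  refine exists_gen_of_eq ?_ ⟨_, h2⟩
  rw [Scheme.Hom.image_preimage_eq_opensRange_inf, Scheme.Opens.opensRange_ι, inf_eq_right]
  exact f.preimage_mono inf_le_right

omit [IsProper f] in
theorem appLE_app_section (σ : Y ⟶ X) (hσ : σ ≫ f = 𝟙 Y) (V : Y.Opens) (e : V ≤ σ ⁻¹ᵁ (f ⁻¹ᵁ V)) (r : Γ(Y, V)) :
    σ.appLE (f ⁻¹ᵁ V) V e (f.app V r) = r := by
  rw [Scheme.Hom.app_eq_appLE, ← CommRingCat.comp_apply, Scheme.Hom.appLE_comp_appLE]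
  refine (ap_congr hσ (show V ≤ (σ ≫ f) ⁻¹ᵁ V from e) r).trans ?_
  show ((𝟙 Y : Y ⟶ Y).appLE V ((𝟙 Y : Y ⟶ Y) ⁻¹ᵁ V) le_rfl).hom r = r
  rw [Scheme.Hom.appLE_eq_app, Scheme.Hom.id_app]
  rfl

variable [Flat f] [IsLocallyNoetherian Y]

/-- Triviality on the infinitesimal neighbourhoods of a fibre gives triviality near the fibre. -/
theorem exists_gen_nhd_of_quot {W : Y.Opens} (hW : IsAffineOpen W) (q : Spec Γ(Y, W)) {P : X.Modules}
    (hP : PicF.IsInvertible P)
    (h : ∀ n : ℕ, Triv ((Scheme.Modules.pullback (pullback.fst f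
      (Spec.map (CommRingCat.ofHom (Ideal.Quotient.mk (q.asIdeal ^ (n + 1)))) ≫ hW.fromSpec))).obj P)) :
    ∃ U : Y.Opens, hW.fromSpec q ∈ U ∧ ∃ s : Γ(P, f ⁻¹ᵁ U), Gen (f ⁻¹ᵁ U) s := by
  letI : (f ⁻¹ᵁ W : Scheme.{u}).Over (Spec (CommRingCat.of Γ(Y, W))) := ⟨BCLib.restOver f hW⟩
  haveI : IsNoetherianRing Γ(Y, W) := IsLocallyNoetherian.component_noetherian ⟨W, hW⟩
  haveI hpr : IsProper (BCLib.restOver f hW) := BCLib.isProper_restOver f hW
  haveI : IsProper (str Γ(Y, W) (f ⁻¹ᵁ W : Scheme.{u})) := hpr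
  haveI hfl : Flat (BCLib.restOver f hW) := MorphismProperty.of_isPullback (BCLib.isPullback_restOver f hW) inferInstance
  haveI : Flat (str Γ(Y, W) (f ⁻¹ᵁ W : Scheme.{u})) := hfl
  obtain ⟨t, ht⟩ := exists_sec_gen_of_quot (R := Γ(Y, W)) (AmpleLib.isInvertible_pullback (f ⁻¹ᵁ W).ι hP) q fun n => by
    let φ := Spec.map (CommRingCat.ofHom (Ideal.Quotient.mk (q.asIdeal ^ (n + 1))))
    let k : pullback (str Γ(Y, W) (f ⁻¹ᵁ W : Scheme.{u})) φ ⟶ pullback f (φ ≫ hW.fromSpec) :=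
      pullback.lift (pullback.fst _ _ ≫ (f ⁻¹ᵁ W).ι) (pullback.snd _ _) (by
        rw [Category.assoc, (BCLib.isPullback_restOver f hW).w]
        exact pullback.condition_assoc hW.fromSpec)
    exact (triv_pullback_comp_iff _ (f ⁻¹ᵁ W).ι rfl).2 ((triv_pullback_comp_iff k (pullback.fst f _)
      (pullback.lift_fst _ _ _)).1 ((h n).pullback k (isInvertible_pullback _ hP)))
  exact exists_gen_nhd_of_sec f hW q hP t ht

/-- Fibrewise triviality over a reduced base gives triviality locally on the base. -/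
theorem exists_gen_nhd_of_fibres [IsReduced Y]
    (hk : ∀ y : Y, Function.Bijective (algebraMap (Y.residueField y) Γ(f.fiber y, ⊤))) {P : X.Modules}
    (hP : PicF.IsInvertible P) (h : ∀ y : Y, Triv ((Scheme.Modules.pullback (f.fiberι y)).obj P)) (y : Y) :
    ∃ U : Y.Opens, y ∈ U ∧ ∃ s : Γ(P, f ⁻¹ᵁ U), Gen (f ⁻¹ᵁ U) s := by
  haveI := Groth.Agent.InvExt.isQCoh_of_isInvertible hP
  obtain ⟨_, ⟨W : Y.Opens, (hW : IsAffineOpen W), rfl⟩, hyW, -⟩ :=
    Y.isBasis_affineOpens.exists_subset_of_mem_open (Set.mem_univ y) isOpen_univ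
  obtain ⟨q, rfl⟩ : ∃ q, hW.fromSpec q = y := ⟨_, hW.fromSpec_primeIdealOf ⟨y, hyW⟩⟩
  letI : (f ⁻¹ᵁ W : Scheme.{u}).Over (Spec (CommRingCat.of Γ(Y, W))) := ⟨BCLib.restOver f hW⟩
  haveI : IsNoetherianRing Γ(Y, W) := IsLocallyNoetherian.component_noetherian ⟨W, hW⟩
  haveI hpr : IsProper (BCLib.restOver f hW) := BCLib.isProper_restOver f hW
  haveI : IsProper (str Γ(Y, W) (f ⁻¹ᵁ W : Scheme.{u})) := hpr
  haveI hfl : Flat (BCLib.restOver f hW) := MorphismProperty.of_isPullback (BCLib.isPullback_restOver f hW) inferInstance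
  haveI : Flat (str Γ(Y, W) (f ⁻¹ᵁ W : Scheme.{u})) := hfl
  have h0 : (fun z : Spec Γ(Y, W) => CohIII.fiberRank (str Γ(Y, W) (f ⁻¹ᵁ W : Scheme.{u})) (BCLib.restMod f P) 0 z) =
      fun _ => 1 := funext fun z =>
    (BCLib.fiberRank_restOver f hW P 0 z).trans (fiberRank_eq_one_of_triv f _ (hk _) (h _))
  have htr : Triv ((Scheme.Modules.pullback ((BCLib.restOver f hW).fiberι q)).obj (BCLib.restMod f P)) :=
    (triv_pullback_comp_iff _ (f ⁻¹ᵁ W).ι rfl).2 ((triv_pullback_comp_iff (BCLib.fiberRestMap f hW q)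
      (f.fiberι (hW.fromSpec q)) (BCLib.fiberRestMap_ι f hW q)).1
        ((h _).pullback _ (isInvertible_pullback _ hP)))
  obtain ⟨t, ht⟩ := exists_sec_gen_fibre_reduced (R := Γ(Y, W)) (AmpleLib.isInvertible_pullback (f ⁻¹ᵁ W).ι hP) q
    (h0 ▸ IsLocallyConstant.const 1) htr
  exact exists_gen_nhd_of_sec f hW q hP t ht

/-- Local triviality over the base and triviality along a section give triviality. -/
theorem triv_of_section (hk : ∀ y : Y, Function.Bijective (algebraMap (Y.residueField y) Γ(f.fiber y, ⊤)))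
    (σ : Y ⟶ X) (hσ : σ ≫ f = 𝟙 Y) {P : X.Modules} (hP : PicF.IsInvertible P)
    (hloc : ∀ y : Y, ∃ U : Y.Opens, y ∈ U ∧ ∃ s : Γ(P, f ⁻¹ᵁ U), Gen (f ⁻¹ᵁ U) s)
    (hs : Triv ((Scheme.Modules.pullback σ).obj P)) : Triv P := by
  obtain ⟨τ, hτ⟩ := hs
  choose U₀ hyU₀ s₀ hs₀ using hloc
  choose U₁ hyU₁ hU₁ using fun y => BCLib.exists_nhd_bijective_app f y (hk y)
  let U : Y → Y.Opens := fun y => U₀ y ⊓ U₁ y
  have hle : ∀ V : Y.Opens, V ≤ σ ⁻¹ᵁ (f ⁻¹ᵁ V) := fun V z hz => by
    show (σ ≫ f) z ∈ V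
    rw [hσ]
    exact hz
  let s₁ : ∀ y, Γ(P, f ⁻¹ᵁ U y) := fun y => P.presheaf.map (homOfLE (f.preimage_mono inf_le_left)).op (s₀ y)
  choose a hau ha using fun y => (gen_pullMap σ hP ((hs₀ y).res (f.preimage_mono inf_le_left)) (hle (U y))).exists_unit
    (hτ.res (le_top : U y ≤ ⊤))
  have hb : ∀ y, ∃ b : Γ(X, f ⁻¹ᵁ U y), IsUnit b ∧ pullMap σ P (hle (U y)) (b • s₁ y) = resT τ (U y) := fun y => by
    obtain ⟨u, hu⟩ := hau y
    refine ⟨f.app (U y) (↑u⁻¹ : Γ(Y, U y)), (u⁻¹).isUnit.map _, ?_⟩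
    rw [pullMap_smul]
    have e1 := appLE_app_section f σ hσ (U y) (hle (U y)) (↑u⁻¹ : Γ(Y, U y))
    rw [e1, show pullMap σ P (hle (U y)) (s₁ y) = a y • resT τ (U y) from (ha y).symm, ← mul_smul, ← hu,
      Units.inv_mul, one_smul]
  choose b hbu hb using hb
  let s : ∀ y, Γ(P, f ⁻¹ᵁ U y) := fun y => b y • s₁ y
  have hs : ∀ y, Gen (f ⁻¹ᵁ U y) (s y) := fun y => ((hs₀ y).res (f.preimage_mono inf_le_left)).smul (hbu y)
  have hcov : (⊤ : X.Opens) ≤ ⨆ y, f ⁻¹ᵁ U y := fun x _ =>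
    Opens.mem_iSup.2 ⟨f x, show f x ∈ U (f x) from ⟨hyU₀ _, hyU₁ _⟩⟩
  obtain ⟨T, hT, -⟩ := TopCat.Sheaf.existsUnique_gluing' (⟨P.presheaf, P.isSheaf⟩ : TopCat.Sheaf Ab.{u} X.carrier)
    (fun y => f ⁻¹ᵁ U y) ⊤ (fun y => homOfLE le_top) hcov s (fun y z => by
      show P.presheaf.map (homOfLE inf_le_left).op (s y) = P.presheaf.map (homOfLE inf_le_right).op (s z)
      let O := U y ⊓ U z
      have hy := (hs y).res (f.preimage_mono inf_le_left : f ⁻¹ᵁ O ≤ f ⁻¹ᵁ U y)
      have hz := (hs z).res (f.preimage_mono inf_le_right : f ⁻¹ᵁ O ≤ f ⁻¹ᵁ U z)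
      obtain ⟨r, -, hr⟩ := hy.exists_unit hz
      obtain ⟨r₀, rfl⟩ := (hU₁ y O (inf_le_left.trans inf_le_right)).2 r
      have e1 := congrArg (pullMap σ P (hle O)) hr
      rw [pullMap_smul, ← pullMap_res σ P (hle (U y)) (f.preimage_mono inf_le_left) inf_le_left (hle O),
        ← pullMap_res σ P (hle (U z)) (f.preimage_mono inf_le_right) inf_le_right (hle O), hb, hb] at e1
      simp only [resT, res_res] at e1
      have e2 : σ.appLE (f ⁻¹ᵁ O) O (hle O) (f.app O r₀) = 1 := by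
        apply (hτ O le_top).1
        show _ • _ = (1 : Γ(Y, O)) • _
        rw [one_smul]
        exact e1
      have e3 : r₀ = 1 := (appLE_app_section f σ hσ O (hle O) r₀).symm.trans e2
      rw [e3, map_one, one_smul] at hr
      exact hr.symm)
  exact ⟨T, gen_of_cover (fun y => f ⁻¹ᵁ U y) (fun _ => le_top) hcov fun y => (hT y).symm ▸ hs y⟩

/-- Seesaw: an invertible module trivial on a dense set of fibres and along a section is trivial. -/
theorem triv_of_dense_fibres [IsReduced Y] [GeometricallyIntegral f] (σ : Y ⟶ X) (hσ : σ ≫ f = 𝟙 Y) {P : X.Modules}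
    (hP : PicF.IsInvertible P) {S : Set Y} (hS : Dense S)
    (h : ∀ y ∈ S, Triv ((Scheme.Modules.pullback (f.fiberι y)).obj P))
    (hs : Triv ((Scheme.Modules.pullback σ).obj P)) : Triv P :=
  triv_of_section f (bijective_fiber_of_section f σ hσ) σ hσ hP
    (exists_gen_nhd_of_fibres f (bijective_fiber_of_section f σ hσ) hP (triv_fiber_of_dense f σ hσ hP hS h)) hs

end Groth.Agent.CubeLib
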