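import Groth.Agent.BCLib.SecBC
import Groth.Agent.AmpleLib.Pullback
import Mathlib.RingTheory.Flat.EquationalCriterion

/-!
# Functions and sections along a base change of an affine base along a surjection
-/

set_option autoImplicit false
set_option backward.isDefEq.respectTransparency false
set_option backward.defeqAttrib.useBackward true
set_option linter.style.haveILetI false

universe u

open CategoryTheory CategoryTheory.Limits AlgebraicGeometry TopologicalSpace Opposite TensorProduct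
open Groth.Agent.CohBase Groth.Agent.ProjCoh Groth.Agent.FormalLib Groth.Agent.PullbackMod Groth.Agent.ParaFLib
  Groth.Agent.AmpleLib

noncomputable section

namespace Groth.Agent.CubeLib

/-- Inverse image of functions. -/
abbrev ap {X Y : Scheme.{u}} (φ : X ⟶ Y) {V : Y.Opens} {U : X.Opens} (e : U ≤ φ ⁻¹ᵁ V) : Γ(Y, V) →+* Γ(X, U) :=
  (φ.appLE V U e).hom

/-- Restriction of functions. -/
abbrev rs {X : Scheme.{u}} {V U : X.Opens} (e : U ≤ V) : Γ(X, V) →+* Γ(X, U) :=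
  (X.presheaf.map (homOfLE e).op).hom

theorem rs_rs {X : Scheme.{u}} {W V U : X.Opens} (e : U ≤ V) (e' : V ≤ W) (x : Γ(X, W)) :
    rs e (rs e' x) = rs (e.trans e') x :=
  (ConcreteCategory.comp_apply (X.presheaf.map (homOfLE e').op) (X.presheaf.map (homOfLE e).op) x).symm.trans
    (by rw [← Functor.map_comp]; rfl)

theorem ap_rs {X Y : Scheme.{u}} (φ : X ⟶ Y) {W V : Y.Opens} {U : X.Opens} (e : U ≤ φ ⁻¹ᵁ V) (e' : V ≤ W)
    (x : Γ(Y, W)) : ap φ e (rs e' x) = ap φ (e.trans (φ.preimage_mono e')) x :=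
  congr($(Scheme.Hom.map_appLE φ e (homOfLE e').op).hom x)

theorem rs_ap {X Y : Scheme.{u}} (φ : X ⟶ Y) {W : Y.Opens} {V U : X.Opens} (e : U ≤ V) (e' : V ≤ φ ⁻¹ᵁ W)
    (x : Γ(Y, W)) : rs e (ap φ e' x) = ap φ (e.trans e') x :=
  congr($(Scheme.Hom.appLE_map φ e' (homOfLE e).op).hom x)

theorem ap_ap {X Y Z : Scheme.{u}} (φ : X ⟶ Y) (ψ : Y ⟶ Z) {W : Z.Opens} {V : Y.Opens} {U : X.Opens}
    (e : U ≤ φ ⁻¹ᵁ V) (e' : V ≤ ψ ⁻¹ᵁ W) (x : Γ(Z, W)) :
    ap φ e (ap ψ e' x) = ap (φ ≫ ψ) (e.trans (φ.preimage_mono e')) x :=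
  congr($(Scheme.Hom.appLE_comp_appLE φ ψ W V U e' e).hom x)

theorem ap_congr {X Y : Scheme.{u}} {φ ψ : X ⟶ Y} (h : φ = ψ) {V : Y.Opens} {U : X.Opens} (e : U ≤ φ ⁻¹ᵁ V)
    (x : Γ(Y, V)) : ap φ e x = ap ψ (h ▸ e) x := by
  subst h; rfl

variable {R R' : CommRingCat.{u}} {X X' : Scheme.{u}} {f : X ⟶ Spec R} {f' : X' ⟶ Spec R'}
  {g : X' ⟶ X} {φ : R ⟶ R'} {W : X.Opens}

theorem ap_secHom (w : g ≫ f = f' ≫ Spec.map φ) {W' : X'.Opens} (e : W' ≤ g ⁻¹ᵁ W) (r : R) :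
    ap g e ((BCLib.secHom f W).hom r) = (BCLib.secHom f' W').hom (φ.hom r) :=
  congr($(BCLib.secHom_comm w e).hom r)

theorem rs_secHom {V U : X.Opens} (e : U ≤ V) (r : R) :
    rs e ((BCLib.secHom f V).hom r) = (BCLib.secHom f U).hom r := by
  have : BCLib.secHom f V ≫ X.presheaf.map (homOfLE e).op = BCLib.secHom f U := by
    rw [BCLib.secHom_eq_appLE, BCLib.secHom_eq_appLE, Category.assoc, Scheme.Hom.appLE_map]
  exact congr($(this).hom r)

theorem flat_secHom [Flat f] (hW : IsAffineOpen W) : (BCLib.secHom f W).hom.Flat := by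
  rw [BCLib.secHom_eq_appLE, CommRingCat.hom_comp]
  exact RingHom.Flat.comp (RingHom.Flat.of_bijective (ConcreteCategory.bijective_of_isIso (Scheme.ΓSpecIso R).inv))
    (Scheme.Hom.flat_appLE f (isAffineOpen_top _) hW _)

variable (hc : IsPullback g f' f (Spec.map φ))

include hc in
theorem surjective_ap (hW : IsAffineOpen W) (hφ : Function.Surjective φ.hom) :
    Function.Surjective (ap g (le_refl (g ⁻¹ᵁ W))) := by
  obtain ⟨-, hpo⟩ := BCLib.isPushout_secHom hc hW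
  letI := φ.hom.toAlgebra
  letI : Algebra R Γ(X, W) := (BCLib.secHom f W).hom.toAlgebra
  letI : Algebra R' Γ(X', g ⁻¹ᵁ W) := (BCLib.secHom f' _).hom.toAlgebra
  letI : Algebra Γ(X, W) Γ(X', g ⁻¹ᵁ W) := (g.app W).hom.toAlgebra
  letI : Algebra R Γ(X', g ⁻¹ᵁ W) := ((g.app W).hom.comp (BCLib.secHom f W).hom).toAlgebra
  haveI : IsScalarTower R Γ(X, W) Γ(X', g ⁻¹ᵁ W) := .of_algebraMap_eq fun _ => rfl
  haveI : IsScalarTower R R' Γ(X', g ⁻¹ᵁ W) := .of_algebraMap_eq' (congrArg CommRingCat.Hom.hom hpo.w.symm)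
  have h : Algebra.IsPushout R R' Γ(X, W) Γ(X', g ⁻¹ᵁ W) := CommRingCat.isPushout_iff_isPushout.mp hpo
  have hs : Function.Surjective (g.app W).hom := fun y => by
    induction y using h.out.inductionOn with
    | zero => exact ⟨0, map_zero _⟩
    | tmul m => exact ⟨m, rfl⟩
    | smul r m hm =>
      obtain ⟨a, rfl⟩ := hm
      obtain ⟨r₀, rfl⟩ := hφ r
      refine ⟨(BCLib.secHom f W).hom r₀ * a, ?_⟩
      rw [map_mul, Algebra.smul_def]
      exact congrArg (· * _) (congr($(hpo.w).hom r₀)).symm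
    | add a b ha hb =>
      obtain ⟨x, rfl⟩ := ha
      obtain ⟨y, rfl⟩ := hb
      exact ⟨x + y, map_add _ _ _⟩
  simpa only [ap, ← Scheme.Hom.app_eq_appLE] using hs

include hc in
theorem mem_map_ker_of_ap_eq_zero (hW : IsAffineOpen W) (hφ : Function.Surjective φ.hom) {h : Γ(X, W)}
    (hh : ap g (le_refl (g ⁻¹ᵁ W)) h = 0) :
    h ∈ (RingHom.ker φ.hom).map (BCLib.secHom f W).hom := by
  obtain ⟨-, hpo⟩ := BCLib.isPushout_secHom hc hW
  let I := (RingHom.ker φ.hom).map (BCLib.secHom f W).hom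
  let ψ : R' →+* Γ(X, W) ⧸ I := RingHom.liftOfSurjective φ.hom hφ ⟨(Ideal.Quotient.mk I).comp (BCLib.secHom f W).hom,
    fun r hr => Ideal.Quotient.eq_zero_iff_mem.2 (Ideal.mem_map_of_mem _ hr)⟩
  have hψ : φ ≫ CommRingCat.ofHom ψ = BCLib.secHom f W ≫ CommRingCat.ofHom (Ideal.Quotient.mk I) :=
    CommRingCat.hom_ext (RingHom.liftOfSurjective_comp _ _ _)
  refine Ideal.Quotient.eq_zero_iff_mem.1 ?_
  have := congr($(hpo.inr_desc _ _ hψ).hom h)
  refine this.symm.trans ?_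
  rw [CommRingCat.hom_comp, RingHom.comp_apply]
  rw [← map_zero (hpo.desc (CommRingCat.ofHom ψ) (CommRingCat.ofHom (Ideal.Quotient.mk I)) hψ).hom]
  refine congrArg _ ?_
  rw [← hh, ap, ← Scheme.Hom.app_eq_appLE]

theorem mul_eq_zero_of_mem_map {I : Ideal R} {ε : R} (hI : ∀ a ∈ I, ε * a = 0) {h : Γ(X, W)}
    (hh : h ∈ I.map (BCLib.secHom f W).hom) : (BCLib.secHom f W).hom ε * h = 0 := by
  induction hh using Submodule.span_induction with
  | mem x hx =>
    obtain ⟨a, ha, rfl⟩ := hx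
    rw [← map_mul, hI a ha, map_zero]
  | zero => rw [mul_zero]
  | add x y _ _ hx hy => rw [mul_add, hx, hy, add_zero]
  | smul r x _ hx => rw [smul_eq_mul, mul_left_comm, hx, mul_zero]

include hc in
theorem ap_eq_zero_of_mul_eq_zero [Flat f] (hW : IsAffineOpen W) {ε : R}
    (hε : ∀ a, ε * a = 0 → φ.hom a = 0) {h : Γ(X, W)} (hh : (BCLib.secHom f W).hom ε * h = 0) {W' : X'.Opens}
    (e : W' ≤ g ⁻¹ᵁ W) : ap g e h = 0 := by
  letI : Algebra R Γ(X, W) := (BCLib.secHom f W).hom.toAlgebra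
  haveI : Module.Flat R Γ(X, W) := flat_secHom hW
  obtain ⟨n, a, y, hy, ha⟩ := Module.Flat.isTrivialRelation_of_sum_smul_eq_zero (R := R) (M := Γ(X, W))
    (f := fun _ : Fin 1 => ε) (x := fun _ => h) (by rw [Fintype.sum_unique]; exact hh)
  rw [show h = ∑ j, a 0 j • y j from hy 0, map_sum]
  refine Finset.sum_eq_zero fun j _ => ?_
  rw [Algebra.smul_def, map_mul]
  refine mul_eq_zero_of_left ?_ _
  show ap g e ((BCLib.secHom f W).hom (a 0 j)) = 0
  rw [ap_secHom hc.w, hε _ (by simpa using ha j), map_zero]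

variable {L : X.Modules}

theorem gen_pullMap (g : X' ⟶ X) (hL : PicF.IsInvertible L) {s : Γ(L, W)} (hs : Gen W s) {W' : X'.Opens}
    (e : W' ≤ g ⁻¹ᵁ W) : Gen W' (pullMap g L e s) := by
  haveI := Groth.Agent.InvExt.isQCoh_of_isInvertible hL
  refine gen_of_germ fun y hy => ?_
  rw [← pullStalk_germ' g L y (show g y ∈ W from e hy) hy e]
  exact bijective_pullStalk g y (hs.bijective_germ _ _)

theorem gen_of_pullMap (g : X' ⟶ X) (hL : PicF.IsInvertible L) {s : Γ(L, W)} {W' : X'.Opens}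
    (e : W' ≤ g ⁻¹ᵁ W) (hsurj : ∀ x ∈ W, ∃ z ∈ W', g z = x) (h : Gen W' (pullMap g L e s)) : Gen W s := by
  haveI := Groth.Agent.InvExt.isQCoh_of_isInvertible hL
  refine gen_of_germ fun x hx => ?_
  obtain ⟨z, hz, rfl⟩ := hsurj x hx
  obtain ⟨b, hb⟩ := exists_stalk_gen hL (g z)
  obtain ⟨a, ha⟩ := hb.2 (L.presheaf.germ W (g z) hx s)
  change a • b = _ at ha
  rw [← ha, AmpleLib.bijective_smul_iff hb]
  have h' := h.bijective_germ z hz
  rw [← pullStalk_germ' g L z (show g z ∈ W from hx) hz e, ← ha, pullStalk_smul,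
    AmpleLib.bijective_smul_iff (bijective_pullStalk g z hb)] at h'
  exact isUnit_of_map_unit (g.stalkMap z).hom a h'

include hc in
theorem surjective_pullMap (hW : IsAffineOpen W) (hφ : Function.Surjective φ.hom) [Coh.IsQCoh L] :
    Function.Surjective (pullMap g L (le_refl (g ⁻¹ᵁ W))) := by
  letI := φ.hom.toAlgebra
  letI := Module.compHom (Sec (Coh.toGlobal (A := R') f') ((Scheme.Modules.pullback g).obj L) (g ⁻¹ᵁ W)) φ.hom
  haveI : IsScalarTower R R' (Sec (Coh.toGlobal (A := R') f') ((Scheme.Modules.pullback g).obj L) (g ⁻¹ᵁ W)) :=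
    .of_algebraMap_smul fun _ _ => rfl
  have hb := BCLib.isBaseChange_secPull hc L hW (W' := g ⁻¹ᵁ W) rfl
  intro y
  induction (show Sec (Coh.toGlobal (A := R') f') ((Scheme.Modules.pullback g).obj L) (g ⁻¹ᵁ W) from y)
    using hb.inductionOn with
  | zero => exact ⟨0, map_zero _⟩
  | tmul m => exact ⟨m, rfl⟩
  | smul r m hm =>
    obtain ⟨a, ha⟩ := hm
    obtain ⟨r₀, rfl⟩ := hφ r
    refine ⟨(BCLib.secHom f W).hom r₀ • a, (pullMap_smul g L _ _ _).trans ?_⟩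
    exact congrArg₂ (fun (c : Γ(X', g ⁻¹ᵁ W)) (v : Γ((Scheme.Modules.pullback g).obj L, g ⁻¹ᵁ W)) => c • v)
      (ap_secHom hc.w le_rfl r₀) ha
  | add a b ha hb =>
    obtain ⟨x, hx⟩ := ha
    obtain ⟨y, hy⟩ := hb
    exact ⟨x + y, (map_add _ _ _).trans (congrArg₂ (· + ·) hx hy)⟩

end Groth.Agent.CubeLib
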