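import Groth.Agent.CubeLib.Kunneth
import Groth.Agent.CubeLib.Sec
import Groth.Agent.ParaFLib.GenExt
import Groth.Agent.QCohLib.Push

/-!
# Triviality of invertible modules along a small extension
-/

set_option autoImplicit false
set_option backward.isDefEq.respectTransparency false
set_option backward.defeqAttrib.useBackward true
set_option linter.style.haveILetI false

universe u

open CategoryTheory CategoryTheory.Limits AlgebraicGeometry TopologicalSpace Opposite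
open Groth.Agent.PullbackMod Groth.Agent.ParaFLib Groth.Agent.AmpleLib

noncomputable section

namespace Groth.Agent.CubeLib

/-- `L` has a global basis. -/
def Triv {X : Scheme.{u}} (L : X.Modules) : Prop := ∃ τ : Γ(L, ⊤), Gen ⊤ τ

/-- All global functions come from the base. -/
def IsConst {R : CommRingCat.{u}} {X : Scheme.{u}} (f : X ⟶ Spec R) : Prop :=
  ∀ F : Γ(X, ⊤), ∃ r : R, (BCLib.secHom f ⊤).hom r = F

theorem isAffineOpen_inf {R : CommRingCat.{u}} {X : Scheme.{u}} (f : X ⟶ Spec R) [IsSeparated f] {U V : X.Opens}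
    (hU : IsAffineOpen U) (hV : IsAffineOpen V) : IsAffineOpen (U ⊓ V) := by
  haveI : X.IsSeparated := ⟨by rw [← terminal.comp_from f]; infer_instance⟩
  exact hU.inf hV

theorem eq_of_cover {X : Scheme.{u}} {κ : Type u} {V : κ → X.Opens} {U : X.Opens} (hle : ∀ a, V a ≤ U)
    (hcov : U ≤ iSup V) {s t : Γ(X, U)} (h : ∀ a, rs (hle a) s = rs (hle a) t) : s = t :=
  TopCat.Sheaf.eq_of_locally_eq' X.sheaf V U (fun a => homOfLE (hle a)) hcov s t h

theorem exists_glue {X : Scheme.{u}} {κ : Type u} {V : κ → X.Opens} {U : X.Opens} (hle : ∀ a, V a ≤ U)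
    (hcov : U ≤ iSup V) (s : ∀ a, Γ(X, V a))
    (h : ∀ a b, rs (inf_le_left : V a ⊓ V b ≤ V a) (s a) = rs (inf_le_right : V a ⊓ V b ≤ V b) (s b)) :
    ∃ S : Γ(X, U), ∀ a, rs (hle a) S = s a := by
  obtain ⟨S, hS, -⟩ := TopCat.Sheaf.existsUnique_gluing' X.sheaf V U (fun a => homOfLE (hle a)) hcov s h
  exact ⟨S, hS⟩

/-- A small extension `R → R'` with kernel `εR`, where `ε` is killed exactly by the kernel of `R → k`. -/
structure SmallExt {R R' : CommRingCat.{u}} {k : Type u} [Field k] (φ : R ⟶ R') (φ₀ : R ⟶ CommRingCat.of k)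
    (ε : R) : Prop where
  surj : Function.Surjective φ.hom
  surj₀ : Function.Surjective φ₀.hom
  eps : φ.hom ε = 0
  ker : ∀ r, φ.hom r = 0 → ∃ a, r = ε * a
  ann : ∀ a, ε * a = 0 ↔ φ₀.hom a = 0
  sq : ε * ε = 0

namespace SmallExt

variable {R R' : CommRingCat.{u}} {k : Type u} [Field k] {φ : R ⟶ R'} {φ₀ : R ⟶ CommRingCat.of k} {ε : R}
  (S : SmallExt φ φ₀ ε)

variable (ε) in
/-- `ε` as a function on an open. -/
abbrev E {X : Scheme.{u}} (f : X ⟶ Spec R) (W : X.Opens) : Γ(X, W) := (BCLib.secHom f W).hom ε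

variable {X X' X₀ : Scheme.{u}} {f : X ⟶ Spec R} {f' : X' ⟶ Spec R'} {f₀ : X₀ ⟶ Spec (CommRingCat.of k)}
  {g : X' ⟶ X} {g₀ : X₀ ⟶ X}

include S in
theorem eps₀ : φ₀.hom ε = 0 := (S.ann ε).1 S.sq

include S in
theorem E_mul_E (W : X.Opens) : E ε f W * E ε f W = 0 := by
  show (BCLib.secHom f W).hom ε * (BCLib.secHom f W).hom ε = 0
  rw [← map_mul, S.sq, map_zero]

include S in
theorem exists_eq_add (hc : IsPullback g f' f (Spec.map φ)) {W : X.Opens} (hW : IsAffineOpen W) {a b : Γ(X, W)}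
    (h : ap g (le_refl (g ⁻¹ᵁ W)) a = ap g (le_refl (g ⁻¹ᵁ W)) b) : ∃ c, a = b + E ε f W * c := by
  have h1 := mem_map_ker_of_ap_eq_zero hc hW S.surj (h := a - b) (by rw [map_sub, h, sub_self])
  have h2 : (RingHom.ker φ.hom).map (BCLib.secHom f W).hom ≤ Ideal.span {E ε f W} :=
    Ideal.map_le_iff_le_comap.2 fun r hr => by
      obtain ⟨c, rfl⟩ := S.ker r hr
      exact Ideal.mem_span_singleton'.2 ⟨(BCLib.secHom f W).hom c, by rw [map_mul, mul_comm]⟩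
  obtain ⟨c, hc'⟩ := Ideal.mem_span_singleton'.1 (h2 h1)
  exact ⟨c, by rw [mul_comm, hc', add_sub_cancel]⟩

include S in
theorem ap₀_eq (hc₀ : IsPullback g₀ f₀ f (Spec.map φ₀)) [Flat f] {W : X.Opens} (hW : IsAffineOpen W)
    {a b : Γ(X, W)} (h : E ε f W * a = E ε f W * b) {W' : X₀.Opens} (e : W' ≤ g₀ ⁻¹ᵁ W) : ap g₀ e a = ap g₀ e b := by
  rw [← sub_eq_zero, ← map_sub]
  exact ap_eq_zero_of_mul_eq_zero hc₀ hW (fun r => (S.ann r).1) (by rw [mul_sub]; exact sub_eq_zero.2 h) e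

include S in
theorem mul_eq (hc₀ : IsPullback g₀ f₀ f (Spec.map φ₀)) {W : X.Opens} (hW : IsAffineOpen W) {a b : Γ(X, W)}
    (h : ap g₀ (le_refl (g₀ ⁻¹ᵁ W)) a = ap g₀ (le_refl (g₀ ⁻¹ᵁ W)) b) : E ε f W * a = E ε f W * b := by
  rw [← sub_eq_zero, ← mul_sub]
  exact mul_eq_zero_of_mem_map (fun r hr => (S.ann r).2 hr)
    (mem_map_ker_of_ap_eq_zero hc₀ hW S.surj₀ (by rw [map_sub, h, sub_self]))

include S in
/-- Global functions stay constant along a small extension. -/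
theorem isConst (hc : IsPullback g f' f (Spec.map φ)) (hc₀ : IsPullback g₀ f₀ f (Spec.map φ₀)) [Flat f]
    [IsSeparated f] (h' : IsConst f') (h₀ : IsConst f₀) : IsConst f := fun F => by
  obtain ⟨r', hr'⟩ := h' (ap g (le_top : (⊤ : X'.Opens) ≤ g ⁻¹ᵁ ⊤) F)
  obtain ⟨r, rfl⟩ := S.surj r'
  let κ := {W : X.Opens // IsAffineOpen W}
  let V : κ → X.Opens := fun a => a.1
  have hcov : (⊤ : X.Opens) ≤ iSup V := fun x _ => by
    obtain ⟨_, ⟨W, hW, rfl⟩, hx, -⟩ := X.isBasis_affineOpens.exists_subset_of_mem_open (Set.mem_univ x) isOpen_univ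
    exact Opens.mem_iSup.2 ⟨⟨W, hW⟩, hx⟩
  have hloc : ∀ a, ∃ H, rs le_top F = (BCLib.secHom f (V a)).hom r + E ε f (V a) * H := fun a =>
    S.exists_eq_add hc a.2 (by
      rw [ap_secHom hc.w, ap_rs, ← rs_secHom (f := f') (le_top : g ⁻¹ᵁ V a ≤ ⊤), hr', rs_ap])
  choose H hH using hloc
  have hov : ∀ a b, rs (inf_le_left : g₀ ⁻¹ᵁ V a ⊓ g₀ ⁻¹ᵁ V b ≤ _) (ap g₀ le_rfl (H a)) =
      rs inf_le_right (ap g₀ le_rfl (H b)) := fun a b => by
    have ha := congrArg (rs (inf_le_left : V a ⊓ V b ≤ V a)) (hH a)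
    have hb := congrArg (rs (inf_le_right : V a ⊓ V b ≤ V b)) (hH b)
    simp only [map_add, map_mul, rs_rs, rs_secHom, E] at ha hb
    have := S.ap₀_eq hc₀ (isAffineOpen_inf f a.2 b.2) (add_left_cancel (ha.symm.trans hb))
      (W' := g₀ ⁻¹ᵁ V a ⊓ g₀ ⁻¹ᵁ V b) le_rfl
    rw [ap_rs, ap_rs] at this
    rw [rs_ap, rs_ap]
    exact this
  have hcov₀ : (⊤ : X₀.Opens) ≤ ⨆ a, g₀ ⁻¹ᵁ V a := fun z _ => by
    obtain ⟨a, ha⟩ := Opens.mem_iSup.1 (hcov (show g₀ z ∈ (⊤ : X.Opens) from trivial))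
    exact Opens.mem_iSup.2 ⟨a, ha⟩
  obtain ⟨H₀, hH₀⟩ := exists_glue (fun _ => le_top) hcov₀ _ hov
  obtain ⟨c₀, hc₀'⟩ := h₀ H₀
  obtain ⟨c, rfl⟩ := S.surj₀ c₀
  refine ⟨r + ε * c, eq_of_cover (fun _ => le_top) hcov fun a => ?_⟩
  rw [hH a, rs_secHom, map_add, map_mul]
  refine congrArg _ (S.mul_eq hc₀ a.2 ?_)
  rw [ap_secHom hc₀.w, ← hH₀ a, ← hc₀', rs_secHom]

variable {L : X.Modules} {κ : Type u} {V : κ → X.Opens}

include S in
/-- Local bases lifting a basis of the reduction, and their transition functions. -/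
theorem exists_frame (hc : IsPullback g f' f (Spec.map φ)) [IsSeparated f] (hL : PicF.IsInvertible L)
    (hsurj : Function.Surjective g) (hV : ∀ a, IsAffineOpen (V a))
    (hL' : Triv ((Scheme.Modules.pullback g).obj L)) :
    ∃ (σ : ∀ a, Γ(L, V a)) (h : ∀ a b, Γ(X, V a ⊓ V b)), (∀ a, Gen (V a) (σ a)) ∧
      ∀ a b, L.presheaf.map (homOfLE (inf_le_left : V a ⊓ V b ≤ V a)).op (σ a) =
        (1 + E ε f (V a ⊓ V b) * h a b) • L.presheaf.map (homOfLE (inf_le_right : V a ⊓ V b ≤ V b)).op (σ b) := by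
  haveI := Groth.Agent.InvExt.isQCoh_of_isInvertible hL
  obtain ⟨τ, hτ⟩ := hL'
  choose σ hσ using fun a => surjective_pullMap hc (hV a) S.surj (L := L) (resT τ (g ⁻¹ᵁ V a))
  have hσg : ∀ a, Gen (V a) (σ a) := fun a => gen_of_pullMap g hL le_rfl (fun x hx => by
    obtain ⟨z, rfl⟩ := hsurj x
    exact ⟨z, hx, rfl⟩) ((hσ a).symm ▸ hτ.res le_top)
  have hab : ∀ a b, ∃ h : Γ(X, V a ⊓ V b), L.presheaf.map (homOfLE (inf_le_left : V a ⊓ V b ≤ V a)).op (σ a) =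
      (1 + E ε f (V a ⊓ V b) * h) • L.presheaf.map (homOfLE (inf_le_right : V a ⊓ V b ≤ V b)).op (σ b) := fun a b => by
    obtain ⟨r, -, hr⟩ := ((hσg a).res inf_le_left).exists_unit ((hσg b).res inf_le_right)
    obtain ⟨h, rfl⟩ := S.exists_eq_add hc (isAffineOpen_inf f (hV a) (hV b)) (a := r) (b := 1) (by
      have e1 := congrArg (pullMap g L (le_refl (g ⁻¹ᵁ (V a ⊓ V b)))) hr
      rw [pullMap_smul, ← pullMap_res g L (le_refl _) inf_le_left (g.preimage_mono inf_le_left) le_rfl,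
        ← pullMap_res g L (le_refl _) inf_le_right (g.preimage_mono inf_le_right) le_rfl, hσ, hσ] at e1
      simp only [resT, res_res] at e1
      rw [map_one]
      have hg : Gen (g ⁻¹ᵁ (V a ⊓ V b)) (resT τ _) := hτ.res le_top
      apply (hg _ le_rfl).1
      simp only [resT, res_res, one_smul]
      exact e1)
    exact ⟨h, hr.symm⟩
  choose h hh using hab
  exact ⟨σ, h, hσg, hh⟩

variable {σ : ∀ a, Γ(L, V a)} {h : ∀ a b, Γ(X, V a ⊓ V b)}

include S in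
/-- The transition functions give a cocycle on the special fibre. -/
theorem cocycle (hc₀ : IsPullback g₀ f₀ f (Spec.map φ₀)) [Flat f] [IsSeparated f] (hV : ∀ a, IsAffineOpen (V a))
    (hσ : ∀ a, Gen (V a) (σ a))
    (hh : ∀ a b, L.presheaf.map (homOfLE (inf_le_left : V a ⊓ V b ≤ V a)).op (σ a) =
      (1 + E ε f (V a ⊓ V b) * h a b) • L.presheaf.map (homOfLE (inf_le_right : V a ⊓ V b ≤ V b)).op (σ b))
    (a b c : κ) :
    rs (le_inf (inf_le_left.trans inf_le_left) inf_le_right :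
        g₀ ⁻¹ᵁ V a ⊓ g₀ ⁻¹ᵁ V b ⊓ g₀ ⁻¹ᵁ V c ≤ g₀ ⁻¹ᵁ V a ⊓ g₀ ⁻¹ᵁ V c) (ap g₀ (le_refl (g₀ ⁻¹ᵁ V a ⊓ g₀ ⁻¹ᵁ V c)) (h a c)) =
      rs (inf_le_left : g₀ ⁻¹ᵁ V a ⊓ g₀ ⁻¹ᵁ V b ⊓ g₀ ⁻¹ᵁ V c ≤ g₀ ⁻¹ᵁ V a ⊓ g₀ ⁻¹ᵁ V b) (ap g₀ (le_refl (g₀ ⁻¹ᵁ V a ⊓ g₀ ⁻¹ᵁ V b)) (h a b)) +
        rs (le_inf (inf_le_left.trans inf_le_right) inf_le_right :
          g₀ ⁻¹ᵁ V a ⊓ g₀ ⁻¹ᵁ V b ⊓ g₀ ⁻¹ᵁ V c ≤ g₀ ⁻¹ᵁ V b ⊓ g₀ ⁻¹ᵁ V c) (ap g₀ (le_refl (g₀ ⁻¹ᵁ V b ⊓ g₀ ⁻¹ᵁ V c)) (h b c)) := by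
  let O := V a ⊓ V b ⊓ V c
  have hO : IsAffineOpen O := isAffineOpen_inf f (isAffineOpen_inf f (hV a) (hV b)) (hV c)
  have key : ∀ x y (hx : O ≤ V x) (hy : O ≤ V y), L.presheaf.map (homOfLE hx).op (σ x) =
      (1 + E ε f O * rs (le_inf hx hy) (h x y)) • L.presheaf.map (homOfLE hy).op (σ y) := fun x y hx hy => by
    have := congrArg (L.presheaf.map (homOfLE (le_inf hx hy)).op) (hh x y)
    rw [res_res, L.map_smul, res_res] at this
    refine this.trans ?_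
    congr 1
    show rs (le_inf hx hy) _ = _
    simp only [map_add, map_one, map_mul, E, rs_secHom]
  have ha : O ≤ V a := inf_le_left.trans inf_le_left
  have hb : O ≤ V b := inf_le_left.trans inf_le_right
  have hc' : O ≤ V c := inf_le_right
  have e1 := key a b ha hb
  rw [key b c hb hc', key a c ha hc', ← mul_smul] at e1
  have e2 := ((hσ c).res hc' O le_rfl).1 (by simp only [res_res]; exact e1 :
    (fun r : Γ(X, O) => r • L.presheaf.map (homOfLE le_rfl).op (L.presheaf.map (homOfLE hc').op (σ c))) _ =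
      (fun r : Γ(X, O) => r • L.presheaf.map (homOfLE le_rfl).op (L.presheaf.map (homOfLE hc').op (σ c))) _)
  have e3 : E ε f O * rs (le_inf ha hc') (h a c) =
      E ε f O * (rs (le_inf ha hb) (h a b) + rs (le_inf hb hc') (h b c)) := by
    linear_combination e2 + rs (le_inf ha hb) (h a b) * rs (le_inf hb hc') (h b c) * S.E_mul_E (f := f) O
  have e4 := S.ap₀_eq hc₀ hO e3 (W' := g₀ ⁻¹ᵁ V a ⊓ g₀ ⁻¹ᵁ V b ⊓ g₀ ⁻¹ᵁ V c) le_rfl
  rw [map_add, ap_rs, ap_rs, ap_rs] at e4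
  rw [rs_ap, rs_ap, rs_ap]
  exact e4

include S in
/-- A module whose transition cocycle is a coboundary is trivial. -/
theorem triv_of_coboundary (hc₀ : IsPullback g₀ f₀ f (Spec.map φ₀)) [IsSeparated f]
    (hV : ∀ a, IsAffineOpen (V a)) (hcov : (⊤ : X.Opens) ≤ iSup V) (hσ : ∀ a, Gen (V a) (σ a))
    (hh : ∀ a b, L.presheaf.map (homOfLE (inf_le_left : V a ⊓ V b ≤ V a)).op (σ a) =
      (1 + E ε f (V a ⊓ V b) * h a b) • L.presheaf.map (homOfLE (inf_le_right : V a ⊓ V b ≤ V b)).op (σ b))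
    (e : ∀ a, Γ(X₀, g₀ ⁻¹ᵁ V a))
    (he : ∀ a b, ap g₀ (le_refl (g₀ ⁻¹ᵁ V a ⊓ g₀ ⁻¹ᵁ V b)) (h a b) = rs inf_le_left (e a) - rs inf_le_right (e b)) :
    Triv L := by
  choose G hG using fun a => surjective_ap hc₀ (hV a) S.surj₀ (e a)
  let ρ : ∀ a, Γ(L, V a) := fun a => (1 - E ε f (V a) * G a) • σ a
  have hρ : ∀ a, Gen (V a) (ρ a) := fun a => (hσ a).smul (IsUnit.of_mul_eq_one (1 + E ε f (V a) * G a) (by
    linear_combination -G a * G a * S.E_mul_E (f := f) (V a)))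
  obtain ⟨T, hT, -⟩ := TopCat.Sheaf.existsUnique_gluing' (⟨L.presheaf, L.isSheaf⟩ : TopCat.Sheaf Ab.{u} X.carrier)
    V ⊤ (fun a => homOfLE le_top) hcov ρ (fun a b => by
      show L.presheaf.map (homOfLE inf_le_left).op (ρ a) = L.presheaf.map (homOfLE inf_le_right).op (ρ b)
      simp only [ρ, L.map_smul]
      rw [hh a b, ← mul_smul]
      congr 1
      show rs inf_le_left (1 - E ε f (V a) * G a) * _ = rs inf_le_right (1 - E ε f (V b) * G b)
      simp only [map_sub, map_one, map_mul, E, rs_secHom]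
      have e1 := S.mul_eq hc₀ (isAffineOpen_inf f (hV a) (hV b)) (a := h a b)
        (b := rs inf_le_left (G a) - rs inf_le_right (G b)) (by
          rw [map_sub, ap_rs, ap_rs]
          refine (he a b).trans ?_
          rw [← hG a, ← hG b, rs_ap, rs_ap]; rfl)
      simp only [E] at e1
      linear_combination e1 - rs (inf_le_left : V a ⊓ V b ≤ V a) (G a) * h a b * S.E_mul_E (f := f) (V a ⊓ V b))
  exact ⟨T, gen_of_cover V (fun _ => le_top) hcov fun a => (hT a).symm ▸ hρ a⟩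

end SmallExt

end Groth.Agent.CubeLib
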