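import Groth.Agent.CubeLib.Small
import Mathlib.AlgebraicGeometry.Geometrically.Reduced
import Mathlib.AlgebraicGeometry.Geometrically.Connected
import Mathlib.AlgebraicGeometry.Morphisms.Proper

/-!
# Constant functions on reduced connected proper schemes with a rational point
-/

set_option autoImplicit false
set_option backward.isDefEq.respectTransparency false

universe u

open CategoryTheory CategoryTheory.Limits AlgebraicGeometry TopologicalSpace Opposite

noncomputable section

namespace Groth.Agent.CubeLib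

theorem eq_zero_or_one_of_idem {X : Scheme.{u}} [IsReduced X] [ConnectedSpace X] {e : Γ(X, ⊤)} (he : e * e = e) :
    e = 0 ∨ e = 1 := by
  have h1 : X.basicOpen e ⊔ X.basicOpen (1 - e) = ⊤ := by
    refine eq_top_iff.2 fun x hx => ?_
    rw [Opens.mem_sup, X.mem_basicOpen _ _ hx, X.mem_basicOpen _ _ hx]
    exact IsLocalRing.isUnit_or_isUnit_of_add_one (by rw [← map_add, add_sub_cancel, map_one])
  have h2 : X.basicOpen e ⊓ X.basicOpen (1 - e) = ⊥ := by
    rw [← Scheme.basicOpen_mul, mul_sub, mul_one, he, sub_self, Scheme.basicOpen_zero]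
  have hclopen : IsClopen (X.basicOpen e : Set X) :=
    ⟨⟨by
      have hc : (X.basicOpen e : Set X)ᶜ = (X.basicOpen (1 - e) : Set X) :=
        IsCompl.compl_eq ⟨Set.disjoint_iff_inter_eq_empty.2 (by rw [← Opens.coe_inf, h2]; rfl),
          codisjoint_iff_le_sup.2 (by
            rw [show ((X.basicOpen e : Set X) ⊔ (X.basicOpen (1 - e) : Set X)) = ((X.basicOpen e ⊔ X.basicOpen (1 - e) :
              X.Opens) : Set X) from (Opens.coe_sup _ _).symm, h1]
            exact le_rfl)⟩
      rw [hc]
      exact (X.basicOpen (1 - e)).isOpen⟩, (X.basicOpen e).isOpen⟩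
  rcases isClopen_iff.1 hclopen with h | h
  · left
    exact basicOpen_eq_bot_iff e |>.1 (SetLike.coe_injective h)
  · right
    have hb : X.basicOpen (1 - e) = ⊥ := by
      have hE : X.basicOpen e = ⊤ := SetLike.coe_injective h
      rw [hE, top_inf_eq] at h2
      exact h2
    exact (sub_eq_zero.1 ((basicOpen_eq_bot_iff (1 - e)).1 hb)).symm

/-- A reduced connected universally closed scheme with a rational point has only constant functions. -/
theorem isConst_of_connected {k : Type u} [Field k] {X : Scheme.{u}} (f : X ⟶ Spec (CommRingCat.of k))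
    [UniversallyClosed f] [IsReduced X] [ConnectedSpace X] (x : Spec (CommRingCat.of k) ⟶ X) (hx : x ≫ f = 𝟙 _) :
    IsConst f := by
  let c := BCLib.secHom f ⊤
  let ev : Γ(X, ⊤) ⟶ CommRingCat.of k := x.appTop ≫ (Scheme.ΓSpecIso (CommRingCat.of k)).hom
  have hc : c = (Scheme.ΓSpecIso (CommRingCat.of k)).inv ≫ f.appTop := by
    show BCLib.secHom f ⊤ = _
    rw [BCLib.secHom_eq_appLE]
    congr 1
    exact (Scheme.Hom.appLE_eq_app f).trans rfl
  have hev : c ≫ ev = 𝟙 _ := by
    rw [hc]
    simp only [ev, Category.assoc]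
    rw [← Scheme.Hom.comp_appTop_assoc, hx, Scheme.Hom.id_appTop, Category.id_comp, Iso.inv_hom_id]
  have hint : c.hom.IsIntegral := by
    rw [hc]
    exact RingHom.isIntegral_respectsIso.2 (f.appTop.hom) (Scheme.ΓSpecIso _).symm.commRingCatIsoToRingEquiv
      (isIntegral_appTop_of_universallyClosed f)
  intro F
  refine ⟨ev.hom F, ?_⟩
  let a : Γ(X, ⊤) := F - c.hom (ev.hom F)
  suffices ha : a = 0 from (sub_eq_zero.1 ha).symm
  have hevc : ∀ r, ev.hom (c.hom r) = r := fun r => congr($(hev).hom r)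
  have hea : ev.hom a = 0 := by simp only [a, map_sub, hevc, sub_self]
  algebraize [c.hom]
  obtain ⟨p, hpm, hp⟩ := hint a
  obtain ⟨q, hq, hq0⟩ : ∃ q, p = Polynomial.X ^ p.rootMultiplicity 0 * q ∧ q.eval 0 ≠ 0 := by
    obtain ⟨q, hq, hq'⟩ := p.exists_eq_pow_rootMultiplicity_mul_and_not_dvd hpm.ne_zero 0
    rw [map_zero, sub_zero] at hq hq'
    exact ⟨q, hq, fun h => hq' (Polynomial.X_dvd_iff.2 (by rwa [Polynomial.coeff_zero_eq_eval_zero]))⟩
  let n := p.rootMultiplicity 0
  obtain ⟨r, hr⟩ : ∃ r, q = Polynomial.X * r + Polynomial.C (q.coeff 0) := ⟨q.divX, (Polynomial.X_mul_divX_add q).symm⟩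
  let u : k := q.coeff 0
  have hu : u ≠ 0 := by rwa [show u = q.eval 0 from Polynomial.coeff_zero_eq_eval_zero q]
  rw [hq, Polynomial.eval₂_mul, Polynomial.eval₂_pow, Polynomial.eval₂_X, hr, Polynomial.eval₂_add,
    Polynomial.eval₂_mul, Polynomial.eval₂_X, Polynomial.eval₂_C] at hp
  let b : Γ(X, ⊤) := -(c.hom u⁻¹ * r.eval₂ c.hom a)
  have hinv : c.hom u * c.hom u⁻¹ = 1 := by rw [← map_mul, mul_inv_cancel₀ hu, map_one]
  have hb : a ^ n * (a * b) = a ^ n := by
    simp only [b]
    linear_combination (-(c.hom u⁻¹)) * hp + a ^ n * hinv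
  have hpow : ∀ m, a ^ n * (a * b) ^ m = a ^ n := fun m => by
    induction m with
    | zero => rw [pow_zero, mul_one]
    | succ m ih => rw [pow_succ, ← mul_assoc, ih, hb]
  have hidem : ((a * b) ^ n) * ((a * b) ^ n) = (a * b) ^ n := by
    calc (a * b) ^ n * (a * b) ^ n = b ^ n * (a ^ n * (a * b) ^ n) := by ring
      _ = (a * b) ^ n := by rw [hpow]; ring
  rcases eq_zero_or_one_of_idem hidem with h | h
  · have : a ^ n = 0 := by rw [← hpow n, h, mul_zero]
    exact IsNilpotent.eq_zero ⟨n, this⟩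
  · exfalso
    by_cases hn : n = 0
    · have h0 := congrArg ev.hom hb
      rw [hn, pow_zero, one_mul, map_mul, hea, zero_mul, map_one] at h0
      exact zero_ne_one h0
    · have h0 := congrArg ev.hom h
      rw [map_pow, map_mul, hea, zero_mul, zero_pow hn, map_one] at h0
      exact zero_ne_one h0

end Groth.Agent.CubeLib
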