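import Groth.Agent.CubeLib.Seesaw
import Groth.Agent.CubeLib.ConnConst

/-!
# The theorem of the cube over a field
-/

set_option autoImplicit false
set_option backward.isDefEq.respectTransparency false
set_option backward.defeqAttrib.useBackward true
set_option linter.style.haveILetI false

universe u

open CategoryTheory CategoryTheory.Limits MonoidalCategory CartesianMonoidalCategory AlgebraicGeometry TopologicalSpace Opposite
open Groth.Agent.CohBase Groth.Agent.ProjCoh Groth.Agent.FormalLib Groth.Agent.PullbackMod Groth.Agent.ParaFLib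
  Groth.Agent.AmpleLib

noncomputable section

namespace Groth.Agent.CubeLib

variable {k : Type u} [Field k]

theorem isArtinianRing_quot_pow {A : Type u} [CommRing A] [IsNoetherianRing A] (q : Ideal A) [q.IsMaximal] (n : ℕ) :
    IsArtinianRing (A ⧸ q ^ (n + 1)) ∧ IsLocalRing (A ⧸ q ^ (n + 1)) := by
  have huniq : ∀ P : Ideal (A ⧸ q ^ (n + 1)), P.IsPrime → P = q.map (Ideal.Quotient.mk _) := fun P hP => by
    have h1 : q ≤ P.comap (Ideal.Quotient.mk _) := by
      refine (Ideal.IsPrime.pow_le_iff (hP := hP.comap _) (Nat.succ_ne_zero n)).1 fun a ha => ?_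
      rw [Ideal.mem_comap, Ideal.Quotient.eq_zero_iff_mem.2 ha]
      exact P.zero_mem
    have h2 : q = P.comap (Ideal.Quotient.mk _) := Ideal.IsMaximal.eq_of_le ‹_› (hP.comap _).ne_top h1
    exact (Ideal.map_comap_of_surjective _ Ideal.Quotient.mk_surjective P).symm.trans
      (congrArg (Ideal.map (Ideal.Quotient.mk (q ^ (n + 1)))) h2.symm)
  haveI : Nontrivial (A ⧸ q ^ (n + 1)) := Ideal.Quotient.nontrivial_iff.2 fun e =>
    Ideal.IsMaximal.ne_top ‹q.IsMaximal› (top_le_iff.1 (e ▸ Ideal.pow_le_self (Nat.succ_ne_zero n)))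
  haveI : Ring.KrullDimLE 0 (A ⧸ q ^ (n + 1)) := Ring.krullDimLE_zero_iff.2 fun P hP => by
    obtain ⟨M, hM, hPM⟩ := Ideal.exists_le_maximal P hP.ne_top
    rwa [huniq P hP, ← huniq M hM.isPrime]
  refine ⟨IsNoetherianRing.isArtinianRing_of_krullDimLE_zero, IsLocalRing.of_unique_max_ideal ?_⟩
  obtain ⟨M, hM⟩ := Ideal.exists_maximal (A ⧸ q ^ (n + 1))
  exact ⟨M, hM, fun P hP => (huniq P hP.isPrime).trans (huniq M hM.isPrime).symm⟩

variable (X Y Z : Over (Spec (CommRingCat.of k))) [IsProper X.hom] [IsProper Y.hom]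

/-- The cube theorem over an Artinian local `k`-algebra with residue field `k`. -/
theorem triv_artin_over {B : CommRingCat.{u}} [IsArtinianRing B] [IsLocalRing B] {φ₀ : B ⟶ CommRingCat.of k}
    (hφ₀ : Function.Surjective φ₀.hom) (φ : Spec B ⟶ Z.left)
    (hφ : Spec.map φ₀ ≫ φ ≫ Z.hom = 𝟙 _) (hX : IsConst X.hom) (hY : IsConst Y.hom)
    (x₀ : 𝟙_ (Over (Spec (CommRingCat.of k))) ⟶ X) (y₀ : 𝟙_ (Over (Spec (CommRingCat.of k))) ⟶ Y)
    (z₀ : 𝟙_ (Over (Spec (CommRingCat.of k))) ⟶ Z) (hz₀ : Spec.map φ₀ ≫ φ = z₀.left)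
    (L : (X ⊗ Y ⊗ Z).left.Modules) (hL : PicF.IsInvertible L)
    (hx : Triv ((Scheme.Modules.pullback (lift (toUnit (Y ⊗ Z) ≫ x₀) (𝟙 (Y ⊗ Z))).left).obj L))
    (hy : Triv ((Scheme.Modules.pullback (lift (fst X Z) (lift (toUnit (X ⊗ Z) ≫ y₀) (snd X Z))).left).obj L))
    (hz : Triv ((Scheme.Modules.pullback (lift (fst X Y) (lift (snd X Y) (toUnit (X ⊗ Y) ≫ z₀))).left).obj L)) :
    Triv ((Scheme.Modules.pullback (pullback.fst (snd X (Y ⊗ Z) ≫ snd Y Z).left φ)).obj L) := by
  let r := φ ≫ Z.hom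
  haveI : Flat X.hom := inferInstance
  haveI : Flat Y.hom := inferInstance
  let XB := pullback X.hom r
  let YB := pullback Y.hom r
  let fX : XB ⟶ Spec B := pullback.snd X.hom r
  let fY : YB ⟶ Spec B := pullback.snd Y.hom r
  let PB := pullback fX fY
  let p : PB ⟶ XB := pullback.fst fX fY
  let q : PB ⟶ YB := pullback.snd fX fY
  have hP : IsPullback p q fX fY := IsPullback.of_hasPullback _ _
  -- the special fibres
  let gX₀ : X.left ⟶ XB := pullback.lift (𝟙 _) (X.hom ≫ Spec.map φ₀) (by rw [Category.assoc, hφ, Category.comp_id, Category.id_comp])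
  let gY₀ : Y.left ⟶ YB := pullback.lift (𝟙 _) (Y.hom ≫ Spec.map φ₀) (by rw [Category.assoc, hφ, Category.comp_id, Category.id_comp])
  have hcX₀ : IsPullback gX₀ X.hom fX (Spec.map φ₀) := by
    refine IsPullback.of_right ?_ (pullback.lift_snd _ _ _) (IsPullback.of_hasPullback X.hom r)
    rw [pullback.lift_fst, hφ]
    exact IsPullback.of_horiz_isIso ⟨by rw [Category.id_comp, Category.comp_id]⟩
  have hcY₀ : IsPullback gY₀ Y.hom fY (Spec.map φ₀) := by
    refine IsPullback.of_right ?_ (pullback.lift_snd _ _ _) (IsPullback.of_hasPullback Y.hom r)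
    rw [pullback.lift_fst, hφ]
    exact IsPullback.of_horiz_isIso ⟨by rw [Category.id_comp, Category.comp_id]⟩
  let P₀ := pullback (q ≫ fY) (Spec.map φ₀)
  have hcP₀ : IsPullback (pullback.fst (q ≫ fY) (Spec.map φ₀)) (pullback.snd _ _) (q ≫ fY) (Spec.map φ₀) :=
    IsPullback.of_hasPullback _ _
  -- the sections
  have hxw : x₀.left ≫ X.hom = 𝟙 (Spec (CommRingCat.of k)) := Over.w x₀
  have hyw : y₀.left ≫ Y.hom = 𝟙 (Spec (CommRingCat.of k)) := Over.w y₀
  let x : Spec B ⟶ XB := pullback.lift (r ≫ x₀.left) (𝟙 _) (by rw [Category.assoc, hxw, Category.comp_id, Category.id_comp])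
  let y : Spec B ⟶ YB := pullback.lift (r ≫ y₀.left) (𝟙 _) (by rw [Category.assoc, hyw, Category.comp_id, Category.id_comp])
  have hx' : x ≫ fX = 𝟙 _ := pullback.lift_snd _ _ _
  have hy' : y ≫ fY = 𝟙 _ := pullback.lift_snd _ _ _
  let s : YB ⟶ PB := pullback.lift (fY ≫ x) (𝟙 _) (by rw [Category.assoc, hx', Category.comp_id, Category.id_comp])
  let t : XB ⟶ PB := pullback.lift (𝟙 _) (fX ≫ y) (by rw [Category.assoc, hy', Category.comp_id, Category.id_comp])
  have hsP : s ≫ q ≫ fY = fY := by rw [← Category.assoc, pullback.lift_snd, Category.id_comp]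
  have htP : t ≫ q ≫ fY = fX := by rw [← Category.assoc, pullback.lift_snd, Category.assoc, hy', Category.comp_id]
  -- over `k`
  let XO := Over.mk (fX ≫ r)
  let YO := Over.mk (fY ≫ r)
  let PO := Over.mk ((q ≫ fY) ≫ r)
  let P₀O := Over.mk (pullback.snd (q ≫ fY) (Spec.map φ₀))
  let aX : XO ⟶ X := Over.homMk (pullback.fst X.hom r) pullback.condition
  let aY : YO ⟶ Y := Over.homMk (pullback.fst Y.hom r) pullback.condition
  let zX : XO ⟶ Z := Over.homMk (fX ≫ φ) (Category.assoc _ _ _)
  let zY : YO ⟶ Z := Over.homMk (fY ≫ φ) (Category.assoc _ _ _)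
  let pO : PO ⟶ XO := Over.homMk p (by show p ≫ fX ≫ r = (q ≫ fY) ≫ r; rw [← Category.assoc, hP.w])
  let qO : PO ⟶ YO := Over.homMk q (Category.assoc _ _ _).symm
  let m : PO ⟶ X ⊗ Y ⊗ Z := lift (pO ≫ aX) (lift (qO ≫ aY) (qO ≫ zY))
  have hPk : PicF.IsInvertible ((Scheme.Modules.pullback m.left).obj L) := AmpleLib.isInvertible_pullback m.left hL
  have hT : Triv ((Scheme.Modules.pullback m.left).obj L) := by
    refine triv_artin (φ₀ := φ₀) hφ₀ hP hcX₀ hcY₀ hcP₀ hX hY x hx' y hy' s (pullback.lift_fst _ _ _)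
      (pullback.lift_snd _ _ _) t (pullback.lift_fst _ _ _) (pullback.lift_snd _ _ _) _ hPk ?_ ?_ ?_
    · have e : s ≫ m.left = (lift aY zY).left ≫ (lift (toUnit (Y ⊗ Z) ≫ x₀) (𝟙 (Y ⊗ Z))).left := by
        let sO : YO ⟶ PO := Over.homMk s (by
          show s ≫ (q ≫ fY) ≫ r = fY ≫ r
          rw [← Category.assoc s (q ≫ fY) r, hsP])
        show (sO ≫ m).left = (lift aY zY ≫ lift (toUnit (Y ⊗ Z) ≫ x₀) (𝟙 (Y ⊗ Z))).left
        refine congrArg CommaMorphism.left ?_
        apply CartesianMonoidalCategory.hom_ext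
        · simp only [m, Category.assoc, lift_fst]
          rw [← Category.assoc (lift aY zY) (toUnit _) x₀, toUnit_unique (lift aY zY ≫ toUnit _) (toUnit YO)]
          apply Over.OverMorphism.ext
          show s ≫ p ≫ pullback.fst X.hom r = (fY ≫ r) ≫ x₀.left
          rw [← Category.assoc s p, pullback.lift_fst, Category.assoc, pullback.lift_fst]
          simp only [Category.assoc]
        · simp only [m, Category.assoc, lift_snd, Category.comp_id]
          have hsq : sO ≫ qO = 𝟙 _ := Over.OverMorphism.ext (pullback.lift_snd _ _ _)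
          apply CartesianMonoidalCategory.hom_ext <;> simp [← Category.assoc, hsq]
      exact (triv_pullback_comp_iff s m.left rfl).2 (e ▸ (triv_pullback_comp_iff _ _ rfl).1
        (hx.pullback (lift aY zY).left (AmpleLib.isInvertible_pullback _ hL)))
    · have e : t ≫ m.left = (lift aX zX).left ≫ (lift (fst X Z) (lift (toUnit (X ⊗ Z) ≫ y₀) (snd X Z))).left := by
        let tO : XO ⟶ PO := Over.homMk t (by
          show t ≫ (q ≫ fY) ≫ r = fX ≫ r
          rw [← Category.assoc t (q ≫ fY) r, htP])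
        show (tO ≫ m).left = (lift aX zX ≫ lift (fst X Z) (lift (toUnit (X ⊗ Z) ≫ y₀) (snd X Z))).left
        refine congrArg CommaMorphism.left ?_
        have htp : tO ≫ pO = 𝟙 _ := Over.OverMorphism.ext (pullback.lift_fst _ _ _)
        apply CartesianMonoidalCategory.hom_ext
        · simp [m, ← Category.assoc, htp]
        · simp only [m, Category.assoc, lift_snd]
          apply CartesianMonoidalCategory.hom_ext
          · simp only [Category.assoc, lift_fst]
            rw [← Category.assoc (lift aX zX) (toUnit _) y₀, toUnit_unique (lift aX zX ≫ toUnit _) (toUnit XO)]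
            apply Over.OverMorphism.ext
            show t ≫ q ≫ pullback.fst Y.hom r = (fX ≫ r) ≫ y₀.left
            rw [← Category.assoc t q, pullback.lift_snd, Category.assoc, pullback.lift_fst]
            simp only [Category.assoc]
          · simp only [Category.assoc, lift_snd]
            apply Over.OverMorphism.ext
            show t ≫ q ≫ fY ≫ φ = fX ≫ φ
            rw [← Category.assoc t q, pullback.lift_snd, Category.assoc, ← Category.assoc y, hy', Category.id_comp]
      exact (triv_pullback_comp_iff t m.left rfl).2 (e ▸ (triv_pullback_comp_iff _ _ rfl).1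
        (hy.pullback (lift aX zX).left (AmpleLib.isInvertible_pullback _ hL)))
    · let gP : P₀O ⟶ PO := Over.homMk (pullback.fst _ _) (by
        show pullback.fst _ _ ≫ (q ≫ fY) ≫ r = pullback.snd _ _
        rw [pullback.condition_assoc, hφ, Category.comp_id])
      have e : pullback.fst (q ≫ fY) (Spec.map φ₀) ≫ m.left = (lift (gP ≫ pO ≫ aX) (gP ≫ qO ≫ aY)).left ≫
          (lift (fst X Y) (lift (snd X Y) (toUnit (X ⊗ Y) ≫ z₀))).left := by
        show (gP ≫ m).left = (lift (gP ≫ pO ≫ aX) (gP ≫ qO ≫ aY) ≫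
          lift (fst X Y) (lift (snd X Y) (toUnit (X ⊗ Y) ≫ z₀))).left
        refine congrArg CommaMorphism.left ?_
        apply CartesianMonoidalCategory.hom_ext
        · simp [m]
        · simp only [m, Category.assoc, lift_snd]
          apply CartesianMonoidalCategory.hom_ext
          · simp
          · simp only [Category.assoc, lift_snd]
            rw [← Category.assoc (lift _ _) (toUnit _) z₀,
              toUnit_unique (lift (gP ≫ pO ≫ aX) (gP ≫ qO ≫ aY) ≫ toUnit _) (toUnit P₀O)]
            apply Over.OverMorphism.ext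
            show pullback.fst _ _ ≫ q ≫ fY ≫ φ = pullback.snd _ _ ≫ z₀.left
            rw [← hz₀, ← Category.assoc q, pullback.condition_assoc]
      exact (triv_pullback_comp_iff _ m.left rfl).2 (e ▸ (triv_pullback_comp_iff _ _ rfl).1
        (hz.pullback (lift (gP ≫ pO ≫ aX) (gP ≫ qO ≫ aY)).left (AmpleLib.isInvertible_pullback _ hL)))
  -- compare with the base change of `L`
  let g := snd X (Y ⊗ Z) ≫ snd Y Z
  let P' := Over.mk (pullback.snd g.left φ ≫ r)
  let j : P' ⟶ X ⊗ Y ⊗ Z := Over.homMk (pullback.fst g.left φ) (by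
    show pullback.fst g.left φ ≫ (X ⊗ Y ⊗ Z).hom = pullback.snd g.left φ ≫ φ ≫ Z.hom
    rw [← Over.w g, pullback.condition_assoc])
  let uX : P'.left ⟶ XB := pullback.lift (j ≫ fst _ _).left (pullback.snd g.left φ) (Over.w (j ≫ fst _ _))
  let uY : P'.left ⟶ YB := pullback.lift (j ≫ snd _ _ ≫ fst _ _).left (pullback.snd g.left φ)
    (Over.w (j ≫ snd _ _ ≫ fst _ _))
  let u : P'.left ⟶ PB := pullback.lift uX uY (by rw [pullback.lift_snd, pullback.lift_snd])
  let uO : P' ⟶ PO := Over.homMk u (by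
    show u ≫ (q ≫ fY) ≫ r = pullback.snd g.left φ ≫ r
    rw [← Category.assoc u (q ≫ fY) r, ← Category.assoc u q fY, pullback.lift_snd, pullback.lift_snd])
  have hum : uO ≫ m = j := by
    apply CartesianMonoidalCategory.hom_ext
    · simp only [m, Category.assoc, lift_fst]
      apply Over.OverMorphism.ext
      show u ≫ p ≫ pullback.fst X.hom r = _
      rw [← Category.assoc, pullback.lift_fst, pullback.lift_fst]
    · simp only [m, Category.assoc, lift_snd]
      apply CartesianMonoidalCategory.hom_ext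
      · simp only [Category.assoc, lift_fst]
        apply Over.OverMorphism.ext
        show u ≫ q ≫ pullback.fst Y.hom r = _
        rw [← Category.assoc, pullback.lift_snd, pullback.lift_fst]
      · simp only [Category.assoc, lift_snd]
        apply Over.OverMorphism.ext
        show u ≫ q ≫ fY ≫ φ = pullback.fst g.left φ ≫ g.left
        rw [← Category.assoc u q, pullback.lift_snd, ← Category.assoc, pullback.lift_snd, pullback.condition]
  exact (triv_pullback_comp_iff u m.left (congrArg CommaMorphism.left hum)).1 (hT.pullback u hPk)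

/-- The theorem of the cube. -/
theorem triv_cube [GeometricallyIntegral X.hom] [GeometricallyReduced Y.hom] [GeometricallyConnected Y.hom]
    [LocallyOfFiniteType Z.hom] [QuasiCompact Z.hom] [GeometricallyIntegral Z.hom]
    (x₀ : 𝟙_ (Over (Spec (CommRingCat.of k))) ⟶ X) (y₀ : 𝟙_ (Over (Spec (CommRingCat.of k))) ⟶ Y)
    (z₀ : 𝟙_ (Over (Spec (CommRingCat.of k))) ⟶ Z)
    (L : (X ⊗ Y ⊗ Z).left.Modules) (hL : PicF.IsInvertible L)
    (hx : Triv ((Scheme.Modules.pullback (lift (toUnit (Y ⊗ Z) ≫ x₀) (𝟙 (Y ⊗ Z))).left).obj L))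
    (hy : Triv ((Scheme.Modules.pullback (lift (fst X Z) (lift (toUnit (X ⊗ Z) ≫ y₀) (snd X Z))).left).obj L))
    (hz : Triv ((Scheme.Modules.pullback (lift (fst X Y) (lift (snd X Y) (toUnit (X ⊗ Y) ≫ z₀))).left).obj L)) :
    Triv L := by
  haveI : Subsingleton ↥(Spec (CommRingCat.of k)) := inferInstanceAs (Subsingleton (PrimeSpectrum k))
  haveI : IsIntegral X.left := GeometricallyIntegral.isIntegral_of_subsingleton X.hom
  haveI : IsIntegral Z.left := GeometricallyIntegral.isIntegral_of_subsingleton Z.hom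
  haveI : IsLocallyNoetherian Z.left := LocallyOfFiniteType.isLocallyNoetherian Z.hom
  haveI : IsLocallyNoetherian Y.left := LocallyOfFiniteType.isLocallyNoetherian Y.hom
  haveI : IsReduced Y.left := GeometricallyReduced.isReduced_of_flat_of_isLocallyNoetherian Y.hom
  haveI : ConnectedSpace Y.left := GeometricallyConnected.geometrically_connectedSpace
    (f := Y.hom) (𝟙 (Spec (CommRingCat.of k))) (𝟙 Y.left) Y.hom (IsPullback.of_horiz_isIso ⟨by rw [Category.id_comp, Category.comp_id]⟩)
  have hY : IsConst Y.hom := isConst_of_connected Y.hom y₀.left (Over.w y₀)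
  have hX : IsConst X.hom := isConst_of_connected X.hom x₀.left (Over.w x₀)
  -- near `z₀`
  obtain ⟨_, ⟨W : Z.left.Opens, (hW : IsAffineOpen W), rfl⟩, hzW, -⟩ :=
    Z.left.isBasis_affineOpens.exists_subset_of_mem_open
      (Set.mem_univ (z₀.left (IsLocalRing.closedPoint k))) isOpen_univ
  let A := Γ(Z.left, W)
  let l := IsOpenImmersion.lift hW.fromSpec z₀.left (by
    rintro _ ⟨w, rfl⟩
    rw [hW.range_fromSpec, Subsingleton.elim (α := ↥(Spec (CommRingCat.of k))) w (IsLocalRing.closedPoint k)]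
    exact hzW)
  let ev : A ⟶ CommRingCat.of k := Spec.preimage l
  let c : CommRingCat.of k ⟶ A := Spec.preimage (hW.fromSpec ≫ Z.hom)
  have hev : Spec.map ev ≫ hW.fromSpec = z₀.left := by rw [Spec.map_preimage]; exact IsOpenImmersion.lift_fac _ _ _
  have hcev : c ≫ ev = 𝟙 _ := Spec.map_injective (by
    rw [Spec.map_comp, show Spec.map c = hW.fromSpec ≫ Z.hom from Spec.map_preimage _, Spec.map_id,
      ← Category.assoc, hev]
    exact Over.w z₀)
  have hevs : Function.Surjective ev.hom := fun w => ⟨c.hom w, congr($(hcev).hom w)⟩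
  let q : Spec A := (Spec.map ev) (IsLocalRing.closedPoint k)
  have hq : q.asIdeal = RingHom.ker ev.hom := by
    show Ideal.comap ev.hom (IsLocalRing.maximalIdeal k) = _
    rw [IsLocalRing.maximalIdeal_eq_bot]; rfl
  haveI : q.asIdeal.IsMaximal := hq ▸ RingHom.ker_isMaximal_of_surjective ev.hom hevs
  haveI : IsNoetherianRing A := IsLocallyNoetherian.component_noetherian ⟨W, hW⟩
  let g := snd X (Y ⊗ Z) ≫ snd Y Z
  haveI : Flat Y.hom := inferInstance
  haveI : Flat X.hom := inferInstance
  haveI : IsProper g.left := by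
    show IsProper ((snd X (Y ⊗ Z)).left ≫ (snd Y Z).left)
    haveI : IsProper (snd X (Y ⊗ Z)).left := MorphismProperty.pullback_snd (P := @IsProper) X.hom (Y ⊗ Z).hom inferInstance
    haveI : IsProper (snd Y Z).left := MorphismProperty.pullback_snd (P := @IsProper) Y.hom Z.hom inferInstance
    infer_instance
  haveI : Flat g.left := by
    show Flat ((snd X (Y ⊗ Z)).left ≫ (snd Y Z).left)
    haveI : Flat (snd X (Y ⊗ Z)).left := MorphismProperty.pullback_snd (P := @Flat) X.hom (Y ⊗ Z).hom inferInstance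
    haveI : Flat (snd Y Z).left := MorphismProperty.pullback_snd (P := @Flat) Y.hom Z.hom inferInstance
    infer_instance
  obtain ⟨U, hzU, s, hs⟩ := exists_gen_nhd_of_quot g.left hW q hL fun n => by
    let B := CommRingCat.of (A ⧸ q.asIdeal ^ (n + 1))
    obtain ⟨hB1, hB2⟩ := isArtinianRing_quot_pow q.asIdeal n
    haveI : IsArtinianRing B := hB1
    haveI : IsLocalRing B := hB2
    let mk : A ⟶ B := CommRingCat.ofHom (Ideal.Quotient.mk (q.asIdeal ^ (n + 1)))
    let φ₀ : B ⟶ CommRingCat.of k := CommRingCat.ofHom (Ideal.Quotient.lift _ ev.hom fun a ha => by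
      have := Ideal.pow_le_self (Nat.succ_ne_zero n) ha
      rwa [hq] at this)
    have hmk : mk ≫ φ₀ = ev := rfl
    have hz₀ : Spec.map φ₀ ≫ Spec.map mk ≫ hW.fromSpec = z₀.left := by
      rw [← Spec.map_comp_assoc, hmk]; exact hev
    refine triv_artin_over X Y Z (φ₀ := φ₀) (fun w => ⟨mk.hom (c.hom w), congr($(hcev).hom w)⟩)
      (Spec.map mk ≫ hW.fromSpec) ?_ hX hY x₀ y₀ z₀ hz₀ L hL hx hy hz
    rw [← Category.assoc (Spec.map φ₀), hz₀]
    exact Over.w z₀
  -- seesaw over `Y × Z`
  let T := Y ⊗ Z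
  let f := (snd X T).left
  haveI : IsProper f := MorphismProperty.pullback_snd (P := @IsProper) X.hom T.hom inferInstance
  haveI : Flat f := MorphismProperty.pullback_snd (P := @Flat) X.hom T.hom inferInstance
  haveI : GeometricallyIntegral f := MorphismProperty.pullback_snd (P := @GeometricallyIntegral) X.hom T.hom inferInstance
  haveI : IsProper (snd Y Z).left := MorphismProperty.pullback_snd (P := @IsProper) Y.hom Z.hom inferInstance
  haveI : IsLocallyNoetherian T.left := LocallyOfFiniteType.isLocallyNoetherian (snd Y Z).left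
  haveI : IsReduced T.left := inferInstanceAs (IsReduced (pullback Y.hom Z.hom))
  have hopen : IsOpenMap (snd Y Z).left :=
    haveI : UniversallyOpen (snd Y Z).left := MorphismProperty.pullback_snd (P := @UniversallyOpen) Y.hom Z.hom inferInstance
    (snd Y Z).left.isOpenMap
  have hd : Dense ((snd Y Z).left ⁻¹' (U : Set Z.left)) :=
    (U.isOpen.dense ⟨_, hzU⟩).preimage hopen
  refine triv_of_dense_fibres f (lift (toUnit T ≫ x₀) (𝟙 T)).left
    (congrArg CommaMorphism.left (lift_snd (toUnit T ≫ x₀) (𝟙 T))) hL hd (fun w hw => ?_) hx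
  refine ⟨_, gen_pullMap (f.fiberι w) hL hs (show ⊤ ≤ (f.fiberι w) ⁻¹ᵁ (g.left ⁻¹ᵁ U) from fun v _ => ?_)⟩
  show (snd Y Z).left (f (f.fiberι w v)) ∈ U
  have : f (f.fiberι w v) = w := by
    have h1 : f.fiberι w v ∈ Set.range (f.fiberι w) := ⟨v, rfl⟩
    rw [f.range_fiberι w] at h1
    exact h1
  rw [this]
  exact hw

end Groth.Agent.CubeLib
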