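import Groth.Agent.BCLib.SecBC
import Mathlib.LinearAlgebra.Dual.Lemmas
import Mathlib.RingTheory.Flat.Basic

/-!
# Injectivity of `H¹(X × Y, O) → H¹(X, O) ⊕ H¹(Y, O)`

For schemes `X`, `Y` over a field with only constant global functions, a Čech `1`-cocycle of
functions on a product cover of `X × Y` which is a coboundary on the two slices is a coboundary.
-/

set_option autoImplicit false
set_option backward.isDefEq.respectTransparency false
set_option backward.defeqAttrib.useBackward true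
set_option linter.style.haveILetI false

universe u

open CategoryTheory CategoryTheory.Limits AlgebraicGeometry TopologicalSpace Opposite TensorProduct
open Groth.Agent.PullbackMod

noncomputable section

namespace Groth.Agent.CubeLib

variable {k : Type u} [Field k]

/-- The functions on an open of a `k`-scheme, as a `k`-algebra. -/
def OSec {X : Scheme.{u}} (_f : X ⟶ Spec (CommRingCat.of k)) (U : X.Opens) : Type u := Γ(X, U)

instance {X : Scheme.{u}} (f : X ⟶ Spec (CommRingCat.of k)) (U : X.Opens) : CommRing (OSec f U) :=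
  inferInstanceAs (CommRing Γ(X, U))

instance {X : Scheme.{u}} (f : X ⟶ Spec (CommRingCat.of k)) (U : X.Opens) : Algebra k (OSec f U) :=
  (show k →+* OSec f U from (BCLib.secHom f U).hom).toAlgebra

/-- Inverse image of functions along a morphism of `k`-schemes. -/
def oMap {X Y : Scheme.{u}} {f : X ⟶ Spec (CommRingCat.of k)} {g : Y ⟶ Spec (CommRingCat.of k)}
    (φ : X ⟶ Y) (w : φ ≫ g = f) {V : Y.Opens} {U : X.Opens} (e : U ≤ φ ⁻¹ᵁ V) :
    OSec g V →ₐ[k] OSec f U where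
  __ := (φ.appLE V U e).hom
  commutes' r := by
    have h : BCLib.secHom g V ≫ φ.appLE V U e = BCLib.secHom f U := by
      subst w
      rw [BCLib.secHom_eq_appLE, BCLib.secHom_eq_appLE, Category.assoc, Scheme.Hom.appLE_comp_appLE]
    exact congr($(h).hom r)

theorem oMap_oMap {X Y Z : Scheme.{u}} {f : X ⟶ Spec (CommRingCat.of k)} {g : Y ⟶ Spec (CommRingCat.of k)}
    {h : Z ⟶ Spec (CommRingCat.of k)} (φ : X ⟶ Y) (w : φ ≫ g = f) (ψ : Y ⟶ Z) (w' : ψ ≫ h = g)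
    {W : Z.Opens} {V : Y.Opens} {U : X.Opens} (e : U ≤ φ ⁻¹ᵁ V) (e' : V ≤ ψ ⁻¹ᵁ W) (x : OSec h W) :
    oMap φ w e (oMap ψ w' e' x) =
      oMap (φ ≫ ψ) (by rw [Category.assoc, w', w]) (e.trans (φ.preimage_mono e')) x :=
  congr($(Scheme.Hom.appLE_comp_appLE φ ψ W V U e' e).hom x)

theorem oMap_congr {X Y : Scheme.{u}} {f : X ⟶ Spec (CommRingCat.of k)} {g : Y ⟶ Spec (CommRingCat.of k)}
    {φ ψ : X ⟶ Y} (h : φ = ψ) (w : φ ≫ g = f) {V : Y.Opens} {U : X.Opens} (e : U ≤ φ ⁻¹ᵁ V) (x : OSec g V) :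
    oMap φ w e x = oMap ψ (h ▸ w) (h ▸ e) x := by
  subst h; rfl

/-- Restriction of functions. -/
def oRes {X : Scheme.{u}} {f : X ⟶ Spec (CommRingCat.of k)} {V U : X.Opens} (e : U ≤ V) :
    OSec f V →ₐ[k] OSec f U :=
  oMap (𝟙 X) (Category.id_comp f) e

theorem oMap_one {X : Scheme.{u}} {f : X ⟶ Spec (CommRingCat.of k)} {V U : X.Opens} (w : 𝟙 X ≫ f = f)
    (e : U ≤ (𝟙 X) ⁻¹ᵁ V) (x : OSec f V) : oMap (𝟙 X) w e x = oRes e x :=
  rfl

theorem oRes_eq {X : Scheme.{u}} {f : X ⟶ Spec (CommRingCat.of k)} {V U : X.Opens} (e : U ≤ V) (x : OSec f V) :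
    oRes e x = X.presheaf.map (homOfLE e).op x := by
  show (Scheme.Hom.appLE (𝟙 X) V U e).hom x = _
  rw [Scheme.Hom.appLE, Scheme.Hom.id_app]
  rfl

theorem oRes_oRes {X : Scheme.{u}} {f : X ⟶ Spec (CommRingCat.of k)} {W V U : X.Opens} (e : U ≤ V) (e' : V ≤ W)
    (x : OSec f W) : oRes e (oRes e' x) = oRes (e.trans e') x :=
  (oMap_oMap _ _ _ _ e e' x).trans (oMap_congr (Category.id_comp _) _ _ x)

theorem oMap_oRes {X Y : Scheme.{u}} {f : X ⟶ Spec (CommRingCat.of k)} {g : Y ⟶ Spec (CommRingCat.of k)}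
    (φ : X ⟶ Y) (w : φ ≫ g = f) {W V : Y.Opens} {U : X.Opens} (e : U ≤ φ ⁻¹ᵁ V) (e' : V ≤ W) (x : OSec g W) :
    oMap φ w e (oRes e' x) = oMap φ w (e.trans (φ.preimage_mono e')) x :=
  (oMap_oMap φ w (𝟙 Y) (Category.id_comp g) e e' x).trans (oMap_congr (Category.comp_id _) _ _ x)

theorem oRes_oMap {X Y : Scheme.{u}} {f : X ⟶ Spec (CommRingCat.of k)} {g : Y ⟶ Spec (CommRingCat.of k)}
    (φ : X ⟶ Y) (w : φ ≫ g = f) {W : Y.Opens} {V U : X.Opens} (e : U ≤ V) (e' : V ≤ φ ⁻¹ᵁ W) (x : OSec g W) :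
    oRes e (oMap φ w e' x) = oMap φ w (e.trans e') x :=
  (oMap_oMap _ _ _ _ e e' x).trans (oMap_congr (Category.id_comp _) _ _ x)

theorem oMap_id {X : Scheme.{u}} {f : X ⟶ Spec (CommRingCat.of k)} {U : X.Opens} (x : OSec f U) :
    oRes (le_refl U) x = x := by
  rw [oRes_eq, show (homOfLE (le_refl U)).op = 𝟙 (op U) from rfl, CategoryTheory.Functor.map_id]
  rfl

theorem oRes_ext {X : Scheme.{u}} {f : X ⟶ Spec (CommRingCat.of k)} {κ : Type u} {V : κ → X.Opens} {U : X.Opens}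
    (hle : ∀ a, V a ≤ U) (hcov : U ≤ iSup V) {s t : OSec f U}
    (h : ∀ a, oRes (hle a) s = oRes (hle a) t) : s = t :=
  TopCat.Sheaf.eq_of_locally_eq' X.sheaf V U (fun a => homOfLE (hle a)) hcov s t fun a => by
    have := h a
    rw [oRes_eq, oRes_eq] at this
    exact this

theorem exists_oGlue {X : Scheme.{u}} {f : X ⟶ Spec (CommRingCat.of k)} {κ : Type u} {V : κ → X.Opens} {U : X.Opens}
    (hle : ∀ a, V a ≤ U) (hcov : U ≤ iSup V) (s : ∀ a, OSec f (V a))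
    (h : ∀ a b, oRes (inf_le_left : V a ⊓ V b ≤ V a) (s a) = oRes (inf_le_right : V a ⊓ V b ≤ V b) (s b)) :
    ∃ S : OSec f U, ∀ a, oRes (hle a) S = s a := by
  obtain ⟨S, hS, -⟩ := TopCat.Sheaf.existsUnique_gluing' X.sheaf V U (fun a => homOfLE (hle a)) hcov s
    (fun a b => by
      have := h a b
      rw [oRes_eq, oRes_eq] at this
      exact this)
  exact ⟨S, fun a => (oRes_eq _ _).trans (hS a)⟩

section Product

variable {X Y P : Scheme.{u}} {f : X ⟶ Spec (CommRingCat.of k)} {g : Y ⟶ Spec (CommRingCat.of k)}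
  {p : P ⟶ X} {q : P ⟶ Y} (hP : IsPullback p q f g)

/-- `Γ(W) ⊗ Γ(U) → Γ(U × W)`. -/
def box {U : X.Opens} {W : Y.Opens} {V : P.Opens} (eU : V ≤ p ⁻¹ᵁ U) (eW : V ≤ q ⁻¹ᵁ W) :
    OSec g W ⊗[k] OSec f U →ₐ[k] OSec (q ≫ g) V :=
  Algebra.TensorProduct.lift (oMap q rfl eW) (oMap p hP.w eU) fun _ _ => Commute.all _ _

theorem box_tmul {U : X.Opens} {W : Y.Opens} {V : P.Opens} (eU : V ≤ p ⁻¹ᵁ U) (eW : V ≤ q ⁻¹ᵁ W)
    (b : OSec g W) (a : OSec f U) :
    box hP eU eW (b ⊗ₜ a) = oMap q rfl eW b * oMap p hP.w eU a :=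
  Algebra.TensorProduct.lift_tmul _ _ _ b a

theorem oRes_box {U U' : X.Opens} {W W' : Y.Opens} {V V' : P.Opens} (eU : V ≤ p ⁻¹ᵁ U) (eW : V ≤ q ⁻¹ᵁ W)
    (eU' : V' ≤ p ⁻¹ᵁ U') (eW' : V' ≤ q ⁻¹ᵁ W') (hU : U' ≤ U) (hW : W' ≤ W) (hV : V' ≤ V)
    (z : OSec g W ⊗[k] OSec f U) :
    oRes hV (box hP eU eW z) =
      box hP eU' eW' (Algebra.TensorProduct.map (oRes hW) (oRes hU) z) := by
  induction z using TensorProduct.induction_on with
  | zero => simp
  | tmul b a =>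
    rw [Algebra.TensorProduct.map_tmul, box_tmul, box_tmul, map_mul, oRes_oMap, oRes_oMap, oMap_oRes, oMap_oRes]
  | add a b ha hb => simp only [map_add, ha, hb]

include hP in
theorem box_bijective {U : X.Opens} (hU : IsAffineOpen U) {W : Y.Opens} (hW : IsAffineOpen W) {V : P.Opens}
    (hV : V = p ⁻¹ᵁ U ⊓ q ⁻¹ᵁ W) :
    Function.Bijective (box hP (hV.le.trans inf_le_left) (hV.le.trans inf_le_right) :
      OSec g W ⊗[k] OSec f U → OSec (q ≫ g) V) := by
  subst hV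
  obtain ⟨-, hpo⟩ := isPushout_appLE hP (isAffineOpen_top (Spec (CommRingCat.of k))) hU hW le_top le_top
  letI : Algebra Γ(Spec (CommRingCat.of k), ⊤) Γ(X, U) := (f.appLE ⊤ U le_top).hom.toAlgebra
  letI : Algebra Γ(Spec (CommRingCat.of k), ⊤) Γ(Y, W) := (g.appLE ⊤ W le_top).hom.toAlgebra
  letI : Algebra Γ(X, U) Γ(P, p ⁻¹ᵁ U ⊓ q ⁻¹ᵁ W) := (p.appLE U _ inf_le_left).hom.toAlgebra
  letI : Algebra Γ(Y, W) Γ(P, p ⁻¹ᵁ U ⊓ q ⁻¹ᵁ W) := (q.appLE W _ inf_le_right).hom.toAlgebra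
  letI : Algebra Γ(Spec (CommRingCat.of k), ⊤) Γ(P, p ⁻¹ᵁ U ⊓ q ⁻¹ᵁ W) :=
    ((p.appLE U _ inf_le_left).hom.comp (f.appLE ⊤ U le_top).hom).toAlgebra
  haveI : IsScalarTower Γ(Spec (CommRingCat.of k), ⊤) Γ(X, U) Γ(P, p ⁻¹ᵁ U ⊓ q ⁻¹ᵁ W) :=
    .of_algebraMap_eq fun _ => rfl
  haveI : IsScalarTower Γ(Spec (CommRingCat.of k), ⊤) Γ(Y, W) Γ(P, p ⁻¹ᵁ U ⊓ q ⁻¹ᵁ W) := .of_algebraMap_eq' (by
      show ((f.appLE ⊤ U le_top) ≫ p.appLE U _ inf_le_left).hom =
        ((g.appLE ⊤ W le_top) ≫ q.appLE W _ inf_le_right).hom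
      simp only [Scheme.Hom.appLE_comp_appLE, hP.w])
  have h := (CommRingCat.isPushout_iff_isPushout.mpr hpo).of_iso (Scheme.ΓSpecIso (CommRingCat.of k))
    (Iso.refl (Γ(Y, W))) (Iso.refl (Γ(X, U))) (Iso.refl (Γ(P, p ⁻¹ᵁ U ⊓ q ⁻¹ᵁ W)))
    (f' := BCLib.secHom g W) (g' := BCLib.secHom f U)
    (inl' := q.appLE W _ inf_le_right) (inr' := p.appLE U _ inf_le_left)
    (by
      show g.appLE ⊤ W le_top ≫ 𝟙 _ = (Scheme.ΓSpecIso _).hom ≫ BCLib.secHom g W
      rw [Category.comp_id, BCLib.secHom_eq_appLE, Iso.hom_inv_id_assoc])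
    (by
      show f.appLE ⊤ U le_top ≫ 𝟙 _ = (Scheme.ΓSpecIso _).hom ≫ BCLib.secHom f U
      rw [Category.comp_id, BCLib.secHom_eq_appLE, Iso.hom_inv_id_assoc])
    ((Category.comp_id _).trans (Category.id_comp _).symm) ((Category.comp_id _).trans (Category.id_comp _).symm)
  letI : Algebra (OSec g W) (OSec (q ≫ g) (p ⁻¹ᵁ U ⊓ q ⁻¹ᵁ W)) := (oMap q rfl inf_le_right).toRingHom.toAlgebra
  letI : Algebra (OSec f U) (OSec (q ≫ g) (p ⁻¹ᵁ U ⊓ q ⁻¹ᵁ W)) := (oMap p hP.w inf_le_left).toRingHom.toAlgebra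
  haveI : IsScalarTower k (OSec g W) (OSec (q ≫ g) (p ⁻¹ᵁ U ⊓ q ⁻¹ᵁ W)) :=
    .of_algebraMap_eq fun r => ((oMap q rfl inf_le_right).commutes r).symm
  haveI : IsScalarTower k (OSec f U) (OSec (q ≫ g) (p ⁻¹ᵁ U ⊓ q ⁻¹ᵁ W)) :=
    .of_algebraMap_eq fun r => ((oMap p hP.w inf_le_left).commutes r).symm
  haveI : Algebra.IsPushout k (OSec g W) (OSec f U) (OSec (q ≫ g) (p ⁻¹ᵁ U ⊓ q ⁻¹ᵁ W)) :=
    CommRingCat.isPushout_iff_isPushout.mp h
  have := (Algebra.IsPushout.equiv k (OSec g W) (OSec f U) (OSec (q ≫ g) (p ⁻¹ᵁ U ⊓ q ⁻¹ᵁ W))).bijective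
  convert this using 1
  funext z
  induction z using TensorProduct.induction_on with
  | zero => simp
  | tmul b a =>
    rw [box_tmul, Algebra.IsPushout.equiv_tmul]
    rfl
  | add a b ha hb => simp only [map_add, ha, hb]

variable {ι : Type u} [Finite ι] {κ : Type u} (U : ι → X.Opens) (W : κ → Y.Opens)

variable (f) in
/-- Functions on the double intersections. -/
abbrev C1 : Type u := ∀ t : ι × ι, OSec f (U t.1 ⊓ U t.2)

variable (f) in
/-- The Čech differential on functions. -/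
def dd : (∀ i, OSec f (U i)) →ₗ[k] C1 f U :=
  LinearMap.pi fun t => (oRes (inf_le_left : U t.1 ⊓ U t.2 ≤ U t.1)).toLinearMap ∘ₗ LinearMap.proj t.1 -
    (oRes (inf_le_right : U t.1 ⊓ U t.2 ≤ U t.2)).toLinearMap ∘ₗ LinearMap.proj t.2

theorem eq_zero_of_forall_dual {B H : Type u} [AddCommGroup B] [Module k B] [AddCommGroup H] [Module k H]
    (z : B ⊗[k] H) (h : ∀ l : H →ₗ[k] k, TensorProduct.rid k B (l.lTensor B z) = 0) : z = 0 := by
  let b := Module.Free.chooseBasis k H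
  apply (TensorProduct.equivFinsuppOfBasisRight (M := B) b).injective
  rw [map_zero]
  ext i
  refine Eq.trans ?_ (h (b.coord i))
  clear h
  induction z using TensorProduct.induction_on with
  | zero => simp
  | tmul m c => simp [TensorProduct.equivFinsuppOfBasisRight_apply_tmul]
  | add x y hx hy => simp only [map_add, Finsupp.add_apply, hx, hy]

include hP in
/-- A cocycle which is a coboundary on both slices is a coboundary. -/
theorem exists_coboundary [Finite κ]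
    (hU : ∀ i, IsAffineOpen (U i)) (hU2 : ∀ i i', IsAffineOpen (U i ⊓ U i')) (hUcov : (⊤ : X.Opens) ≤ iSup U)
    (hW : ∀ j, IsAffineOpen (W j)) (hW2 : ∀ j j', IsAffineOpen (W j ⊓ W j')) (hWcov : (⊤ : Y.Opens) ≤ iSup W)
    (hX : ∀ F : OSec f ⊤, ∃ c : k, algebraMap k _ c = F) (hY : ∀ F : OSec g ⊤, ∃ c : k, algebraMap k _ c = F)
    (x : Spec (CommRingCat.of k) ⟶ X) (hx : x ≫ f = 𝟙 _)
    (y : Spec (CommRingCat.of k) ⟶ Y) (hy : y ≫ g = 𝟙 _)
    (s : Y ⟶ P) (hsp : s ≫ p = g ≫ x) (hsq : s ≫ q = 𝟙 Y)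
    (t : X ⟶ P) (htp : t ≫ p = 𝟙 X) (htq : t ≫ q = f ≫ y)
    (V : ι × κ → P.Opens) (hV : ∀ a, V a = p ⁻¹ᵁ U a.1 ⊓ q ⁻¹ᵁ W a.2)
    (d : ∀ a b, OSec (q ≫ g) (V a ⊓ V b))
    (hd : ∀ a b c,
      oRes (le_inf (inf_le_left.trans inf_le_left) inf_le_right : V a ⊓ V b ⊓ V c ≤ V a ⊓ V c) (d a c) =
        oRes (inf_le_left : V a ⊓ V b ⊓ V c ≤ V a ⊓ V b) (d a b) +
          oRes (le_inf (inf_le_left.trans inf_le_right) inf_le_right : V a ⊓ V b ⊓ V c ≤ V b ⊓ V c) (d b c))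
    (hs : ∃ e : ∀ a, OSec g (s ⁻¹ᵁ V a), ∀ a b,
      oMap s (by rw [← Category.assoc, hsq, Category.id_comp]) (le_refl (s ⁻¹ᵁ V a ⊓ s ⁻¹ᵁ V b)) (d a b) =
        oRes inf_le_left (e a) - oRes inf_le_right (e b))
    (ht : ∃ e : ∀ a, OSec f (t ⁻¹ᵁ V a), ∀ a b,
      oMap t (by rw [← Category.assoc, htq, Category.assoc, hy, Category.comp_id])
          (le_refl (t ⁻¹ᵁ V a ⊓ t ⁻¹ᵁ V b)) (d a b) =
        oRes inf_le_left (e a) - oRes inf_le_right (e b)) :
    ∃ e : ∀ a, OSec (q ≫ g) (V a), ∀ a b, d a b = oRes inf_le_left (e a) - oRes inf_le_right (e b) := by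
  classical
  haveI : Fintype ι := Fintype.ofFinite ι
  haveI : Fintype κ := Fintype.ofFinite κ
  obtain ⟨eS, heS⟩ := hs
  obtain ⟨eT, heT⟩ := ht
  have hpt : ∀ z : ↥(Spec (CommRingCat.of k)), z = IsLocalRing.closedPoint k := fun z =>
    Subsingleton.elim (α := PrimeSpectrum k) _ _
  obtain ⟨i₀, hi₀⟩ := Opens.mem_iSup.1 (hUcov (trivial : x (IsLocalRing.closedPoint k) ∈ (⊤ : X.Opens)))
  obtain ⟨j₀, hj₀⟩ := Opens.mem_iSup.1 (hWcov (trivial : y (IsLocalRing.closedPoint k) ∈ (⊤ : Y.Opens)))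
  have hsV : ∀ (U' : X.Opens), x (IsLocalRing.closedPoint k) ∈ U' → ∀ W' : Y.Opens,
      W' ≤ s ⁻¹ᵁ (p ⁻¹ᵁ U' ⊓ q ⁻¹ᵁ W') := fun U' hx' W' z hz => by
    refine ⟨?_, ?_⟩
    · show (s ≫ p) z ∈ U'
      rw [hsp, Scheme.Hom.comp_apply, hpt (g z)]
      exact hx'
    · show (s ≫ q) z ∈ W'
      rw [hsq]
      exact hz
  have htV : ∀ (U' : X.Opens) (W' : Y.Opens), y (IsLocalRing.closedPoint k) ∈ W' →
      U' ≤ t ⁻¹ᵁ (p ⁻¹ᵁ U' ⊓ q ⁻¹ᵁ W') := fun U' W' hy' z hz => by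
    refine ⟨?_, ?_⟩
    · show (t ≫ p) z ∈ U'
      rw [htp]
      exact hz
    · show (t ≫ q) z ∈ W'
      rw [htq, Scheme.Hom.comp_apply, hpt (f z)]
      exact hy'
  -- step 1: the components with fixed second index
  let N : κ → ι × ι → P.Opens := fun j i => p ⁻¹ᵁ (U i.1 ⊓ U i.2) ⊓ q ⁻¹ᵁ W j
  let Φ : ∀ (W' : Y.Opens), OSec g W' ⊗[k] C1 f U →ₗ[k]
      (∀ i : ι × ι, OSec (q ≫ g) (p ⁻¹ᵁ (U i.1 ⊓ U i.2) ⊓ q ⁻¹ᵁ W')) := fun W' =>
    LinearMap.pi fun i => (box hP inf_le_left inf_le_right).toLinearMap ∘ₗ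
      (LinearMap.proj (R := k) (φ := fun i : ι × ι => OSec f (U i.1 ⊓ U i.2)) i).lTensor (OSec g W')
  let Ψ : ∀ (W' : Y.Opens), OSec g W' ⊗[k] (∀ i, OSec f (U i)) →ₗ[k]
      (∀ i : ι, OSec (q ≫ g) (p ⁻¹ᵁ U i ⊓ q ⁻¹ᵁ W')) := fun W' =>
    LinearMap.pi fun i => (box hP inf_le_left inf_le_right).toLinearMap ∘ₗ
      (LinearMap.proj (R := k) (φ := fun i : ι => OSec f (U i)) i).lTensor (OSec g W')
  have hΦ : ∀ W' : Y.Opens, IsAffineOpen W' → Function.Bijective (Φ W') := fun W' hW' => by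
    have : (Φ W' : _ → _) = (Pi.map fun i => box hP inf_le_left inf_le_right) ∘
        (TensorProduct.piRight k k (OSec g W') fun i : ι × ι => OSec f (U i.1 ⊓ U i.2)) := by
      funext z i
      induction z using TensorProduct.induction_on with
      | zero => simp [Φ]
      | tmul b a => simp [Φ, Pi.map]
      | add a b ha hb =>
        simp only [Function.comp_apply, map_add] at ha hb ⊢
        simp only [Pi.map_apply, Pi.add_apply] at ha hb ⊢
        rw [ha, hb, map_add]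
    rw [this]
    exact (Function.Bijective.piMap fun i => box_bijective hP (hU2 i.1 i.2) hW' rfl).comp
      (LinearEquiv.bijective _)
  have hΨ : ∀ W' : Y.Opens, IsAffineOpen W' → Function.Bijective (Ψ W') := fun W' hW' => by
    have : (Ψ W' : _ → _) = (Pi.map fun i => box hP inf_le_left inf_le_right) ∘
        (TensorProduct.piRight k k (OSec g W') fun i : ι => OSec f (U i)) := by
      funext z i
      induction z using TensorProduct.induction_on with
      | zero => simp [Ψ]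
      | tmul b a => simp [Ψ, Pi.map]
      | add a b ha hb =>
        simp only [Function.comp_apply, map_add] at ha hb ⊢
        simp only [Pi.map_apply, Pi.add_apply] at ha hb ⊢
        rw [ha, hb, map_add]
    rw [this]
    exact (Function.Bijective.piMap fun i => box_bijective hP (hU i) hW' rfl).comp (LinearEquiv.bijective _)
  have hdd : ∀ (W' : Y.Opens) (z : OSec g W' ⊗[k] (∀ i, OSec f (U i))) (i : ι × ι),
      Φ W' ((dd f U).lTensor _ z) i =
        oRes (inf_le_inf_right _ (p.preimage_mono inf_le_left)) (Ψ W' z i.1) -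
          oRes (inf_le_inf_right _ (p.preimage_mono inf_le_right)) (Ψ W' z i.2) := fun W' z i => by
    induction z using TensorProduct.induction_on with
    | zero => simp [Φ, Ψ]
    | tmul b a => simp [Φ, Ψ, dd, box_tmul, oRes_oMap, oMap_oRes, mul_sub]
    | add a b ha hb => simp only [map_add, Pi.add_apply, ha, hb]; abel
  have hres : ∀ {W' W'' : Y.Opens} (h : W'' ≤ W') (z : OSec g W' ⊗[k] C1 f U) (i : ι × ι),
      Φ W'' ((oRes h).toLinearMap.rTensor _ z) i = oRes (inf_le_inf_left _ (q.preimage_mono h)) (Φ W' z i) :=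
    fun {W' W''} h z i => by
      induction z using TensorProduct.induction_on with
      | zero => simp [Φ]
      | tmul b a => simp [Φ, box_tmul, oRes_oMap, oMap_oRes]
      | add a b ha hb => simp only [map_add, Pi.add_apply, ha, hb]
  have hNV : ∀ (W' : Y.Opens) (j j' : κ) (i i' : ι), W' ≤ W j → W' ≤ W j' →
      p ⁻¹ᵁ (U i ⊓ U i') ⊓ q ⁻¹ᵁ W' ≤ V (i, j) ⊓ V (i', j') := fun W' j j' i i' h h' => by
    rw [hV, hV]
    exact le_inf (le_inf (inf_le_left.trans (p.preimage_mono inf_le_left)) (inf_le_right.trans (q.preimage_mono h)))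
      (le_inf (inf_le_left.trans (p.preimage_mono inf_le_right)) (inf_le_right.trans (q.preimage_mono h')))
  choose δ hδ using fun j => (hΦ (W j) (hW j)).2 fun i =>
    oRes (hNV (W j) j j i.1 i.2 le_rfl le_rfl) (d (i.1, j) (i.2, j))
  let H := C1 f U ⧸ LinearMap.range (dd f U)
  let α : ∀ j, OSec g (W j) ⊗[k] H := fun j => (LinearMap.range (dd f U)).mkQ.lTensor _ (δ j)
  have hexact : ∀ (W' : Y.Opens) (z : OSec g W' ⊗[k] C1 f U),
      (LinearMap.range (dd f U)).mkQ.lTensor _ z = 0 → ∃ e, (dd f U).lTensor _ e = z := fun W' z hz =>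
    (lTensor_exact (OSec g W') (LinearMap.exact_map_mkQ_range (dd f U)) (Submodule.mkQ_surjective _) z).1 hz
  have hd3 : ∀ (W' : P.Opens) a b c (h1 : W' ≤ V a) (h2 : W' ≤ V b) (h3 : W' ≤ V c),
      oRes (le_inf h1 h3) (d a c) = oRes (le_inf h1 h2) (d a b) + oRes (le_inf h2 h3) (d b c) :=
    fun W' a b c h1 h2 h3 => by
      have := congrArg (oRes (le_inf (le_inf h1 h2) h3)) (hd a b c)
      simpa only [map_add, oRes_oRes] using this
  have hagree : ∀ j j', (oRes (inf_le_left : W j ⊓ W j' ≤ W j)).toLinearMap.rTensor H (α j) =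
      (oRes (inf_le_right : W j ⊓ W j' ≤ W j')).toLinearMap.rTensor H (α j') := fun j j' => by
    obtain ⟨b, hb⟩ := (hΨ _ (hW2 j j')).2 fun i =>
      oRes ((inf_le_inf_right _ (p.preimage_mono (le_inf le_rfl le_rfl))).trans
        (hNV (W j ⊓ W j') j j' i i inf_le_left inf_le_right)) (d (i, j) (i, j'))
    rw [← sub_eq_zero]
    simp only [α]
    rw [← LinearMap.comp_apply, LinearMap.rTensor_comp_lTensor, ← LinearMap.lTensor_comp_rTensor,
      LinearMap.comp_apply, ← LinearMap.comp_apply (f := LinearMap.rTensor _ (oRes inf_le_right).toLinearMap),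
      LinearMap.rTensor_comp_lTensor, ← LinearMap.lTensor_comp_rTensor, LinearMap.comp_apply, ← map_sub]
    have key : (oRes (inf_le_left : W j ⊓ W j' ≤ W j)).toLinearMap.rTensor _ (δ j) -
        (oRes (inf_le_right : W j ⊓ W j' ≤ W j')).toLinearMap.rTensor _ (δ j') = (dd f U).lTensor _ b := by
      refine (hΦ _ (hW2 j j')).1 (funext fun i => ?_)
      rw [map_sub, Pi.sub_apply, hres, hres, hdd, hδ, hδ, hb, oRes_oRes, oRes_oRes, oRes_oRes, oRes_oRes]
      have hA : p ⁻¹ᵁ (U i.1 ⊓ U i.2) ⊓ q ⁻¹ᵁ (W j ⊓ W j') ≤ V (i.1, j) :=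
        (hNV _ j j' i.1 i.2 inf_le_left inf_le_right).trans inf_le_left
      have hB : p ⁻¹ᵁ (U i.1 ⊓ U i.2) ⊓ q ⁻¹ᵁ (W j ⊓ W j') ≤ V (i.2, j') :=
        (hNV _ j j' i.1 i.2 inf_le_left inf_le_right).trans inf_le_right
      have hC : p ⁻¹ᵁ (U i.1 ⊓ U i.2) ⊓ q ⁻¹ᵁ (W j ⊓ W j') ≤ V (i.2, j) :=
        (hNV _ j j i.1 i.2 inf_le_left inf_le_left).trans inf_le_right
      have hD : p ⁻¹ᵁ (U i.1 ⊓ U i.2) ⊓ q ⁻¹ᵁ (W j ⊓ W j') ≤ V (i.1, j') :=
        (hNV _ j' j' i.1 i.2 inf_le_right inf_le_right).trans inf_le_left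
      have e1 := hd3 _ (i.1, j) (i.2, j) (i.2, j') hA hC hB
      have e2 := hd3 _ (i.1, j) (i.1, j') (i.2, j') hA hD hB
      linear_combination (e2 - e1)
    rw [key, ← LinearMap.comp_apply, ← LinearMap.lTensor_comp,
      (LinearMap.exact_map_mkQ_range (dd f U)).linearMap_comp_eq_zero, LinearMap.lTensor_zero, LinearMap.zero_apply]
  have hα0 : ∀ j, α j = 0 := fun j => by
    refine eq_zero_of_forall_dual _ fun l => ?_
    let c : ∀ j', OSec g (W j') := fun j' => TensorProduct.rid k _ (l.lTensor _ (α j'))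
    have hnat : ∀ {W' W'' : Y.Opens} (h : W'' ≤ W') (z : OSec g W' ⊗[k] H),
        oRes h (TensorProduct.rid k _ (l.lTensor _ z)) =
          TensorProduct.rid k _ (l.lTensor _ ((oRes h).toLinearMap.rTensor H z)) := fun {W' W''} h z => by
      induction z using TensorProduct.induction_on with
      | zero => simp
      | tmul b a => simp
      | add a b ha hb => simp only [map_add, ha, hb]
    obtain ⟨F, hF⟩ := exists_oGlue (fun _ => le_top) hWcov c fun a b => by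
      rw [hnat, hnat, hagree]
    obtain ⟨c₀, hc₀⟩ := hY F
    have hc : ∀ j', c j' = algebraMap k _ c₀ := fun j' => by rw [← hF j', ← hc₀, AlgHom.commutes]
    show c j = 0
    rw [hc j]
    suffices h0 : c₀ = 0 by rw [h0, map_zero]
    -- evaluate at `y`
    let ev : OSec g (W j₀) →ₐ[k] OSec (𝟙 (Spec (CommRingCat.of k))) ⊤ :=
      oMap y hy fun z _ => show y z ∈ W j₀ by rw [hpt z]; exact hj₀
    let evk : k ≃ₐ[k] OSec (𝟙 (Spec (CommRingCat.of k))) ⊤ :=
      AlgEquiv.ofBijective (Algebra.ofId _ _) (by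
        show Function.Bijective (BCLib.secHom (𝟙 (Spec (CommRingCat.of k))) ⊤).hom
        have : IsIso (BCLib.secHom (𝟙 (Spec (CommRingCat.of k))) ⊤) := by
          rw [BCLib.secHom_eq_appLE]
          show IsIso (_ ≫ Scheme.Hom.appLE (𝟙 (Spec (CommRingCat.of k))) ⊤ ((𝟙 (Spec (CommRingCat.of k))) ⁻¹ᵁ ⊤) le_rfl)
          rw [Scheme.Hom.appLE_eq_app, Scheme.Hom.id_app]
          infer_instance
        exact ConcreteCategory.bijective_of_isIso _)
    let η : OSec g (W j₀) →ₐ[k] k := evk.symm.toAlgHom.comp ev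
    have h1 : η (c j₀) = c₀ := by rw [hc j₀, AlgHom.commutes]; rfl
    rw [← h1]
    have hηc : η (c j₀) = l (Submodule.Quotient.mk
        (TensorProduct.lid k (C1 f U) (η.toLinearMap.rTensor _ (δ j₀)))) := by
      simp only [c, α]
      generalize δ j₀ = z
      induction z using TensorProduct.induction_on with
      | zero => simp
      | tmul b a => simp [mul_comm]
      | add a b ha hb => simp only [map_add, Submodule.Quotient.mk_add, ha, hb]
    rw [hηc]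
    suffices hmem : TensorProduct.lid k (C1 f U) (η.toLinearMap.rTensor _ (δ j₀)) ∈ LinearMap.range (dd f U) by
      rw [(Submodule.Quotient.mk_eq_zero _).2 hmem, map_zero]
    refine ⟨fun i => oRes ((htV (U i) (W j₀) hj₀).trans (t.preimage_mono (hV (i, j₀)).ge)) (eT (i, j₀)),
      funext fun i => ?_⟩
    have hle : U i.1 ⊓ U i.2 ≤ t ⁻¹ᵁ (p ⁻¹ᵁ (U i.1 ⊓ U i.2) ⊓ q ⁻¹ᵁ W j₀) := htV _ _ hj₀
    have hev : TensorProduct.lid k (C1 f U) (η.toLinearMap.rTensor _ (δ j₀)) i =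
        oMap t (by rw [← Category.assoc, htq, Category.assoc, hy, Category.comp_id]) hle
          (Φ (W j₀) (δ j₀) i) := by
      generalize δ j₀ = z
      induction z using TensorProduct.induction_on with
      | zero => simp [Φ]
      | tmul b a =>
        have hb : oMap (f ≫ y) (by rw [Category.assoc, hy, Category.comp_id])
            (fun z _ => show (f ≫ y) z ∈ W j₀ by rw [Scheme.Hom.comp_apply, hpt (f z)]; exact hj₀) b =
            algebraMap k (OSec f (U i.1 ⊓ U i.2)) (η b) := by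
          rw [← oMap_oMap f (Category.comp_id f) y hy (U := U i.1 ⊓ U i.2) (V := ⊤) le_top
            (fun z _ => show y z ∈ W j₀ by rw [hpt z]; exact hj₀)]
          have : ev b = algebraMap k _ (η b) := (evk.apply_symm_apply (ev b)).symm
          exact (congrArg _ this).trans (AlgHom.commutes _ _)
        simp [Φ, box_tmul, oMap_oMap, oMap_congr htp, oMap_congr htq, hb, oMap_one, Algebra.smul_def]
        exact congrArg _ (oMap_id _).symm
      | add a b ha hb => simp only [map_add, Pi.add_apply, ha, hb]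
    show oRes _ (oRes _ (eT (i.1, j₀))) - oRes _ (oRes _ (eT (i.2, j₀))) = _
    rw [hev, hδ, oMap_oRes]
    have := congrArg (oRes (f := f) (U := U i.1 ⊓ U i.2) (le_inf
      (inf_le_left.trans ((htV (U i.1) (W j₀) hj₀).trans (t.preimage_mono (hV (i.1, j₀)).ge)))
      (inf_le_right.trans ((htV (U i.2) (W j₀) hj₀).trans (t.preimage_mono (hV (i.2, j₀)).ge))))) (heT (i.1, j₀) (i.2, j₀))
    rw [map_sub, oRes_oMap, oRes_oRes, oRes_oRes] at this
    rw [oRes_oRes, oRes_oRes]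
    exact this.symm
  choose ε hε using fun j => hexact (W j) (δ j) (hα0 j)
  let e₁ : ∀ a, OSec (q ≫ g) (V a) := fun a => oRes (hV a).le (Ψ (W a.2) (ε a.2) a.1)
  let d' : ∀ a b, OSec (q ≫ g) (V a ⊓ V b) := fun a b =>
    d a b - (oRes inf_le_left (e₁ a) - oRes inf_le_right (e₁ b))
  have hd'0 : ∀ i i' j (O : P.Opens) (h : O ≤ V (i, j) ⊓ V (i', j)), oRes h (d' (i, j) (i', j)) = 0 :=
    fun i i' j O h => by
      have hON : O ≤ p ⁻¹ᵁ (U i ⊓ U i') ⊓ q ⁻¹ᵁ W j := by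
        have h' := h
        rw [hV, hV] at h'
        exact h'.trans (le_inf (le_inf (inf_le_left.trans inf_le_left) (inf_le_right.trans inf_le_left))
          (inf_le_left.trans inf_le_right))
      have h1 := congrArg (oRes hON) (congrFun (congrArg (Φ (W j)) (hε j)) (i, i'))
      rw [hdd, hδ, map_sub, oRes_oRes, oRes_oRes, oRes_oRes] at h1
      simp only [d', e₁, map_sub, oRes_oRes]
      rw [h1, sub_self]
  have hd'3 : ∀ (O : P.Opens) a b c (h1 : O ≤ V a) (h2 : O ≤ V b) (h3 : O ≤ V c),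
      oRes (le_inf h1 h3) (d' a c) = oRes (le_inf h1 h2) (d' a b) + oRes (le_inf h2 h3) (d' b c) :=
    fun O a b c h1 h2 h3 => by
      simp only [d', map_sub, oRes_oRes]
      linear_combination hd3 O a b c h1 h2 h3
  -- step 2: the components with fixed first index come from `Y`
  have hker : ∀ (W' : Y.Opens) (z : OSec g W' ⊗[k] (∀ i, OSec f (U i))),
      (dd f U).lTensor _ z = 0 → ∃ c : OSec g W', z = c ⊗ₜ[k] (1 : ∀ i, OSec f (U i)) := fun W' z hz => by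
    obtain ⟨w, rfl⟩ := (Module.Flat.lTensor_exact (OSec g W')
      (LinearMap.exact_subtype_ker_map (dd f U)) z).1 hz
    induction w using TensorProduct.induction_on with
    | zero => exact ⟨0, by simp⟩
    | tmul b a =>
      have ha : ∀ i i', oRes (inf_le_left : U i ⊓ U i' ≤ U i) (a.1 i) =
          oRes (inf_le_right : U i ⊓ U i' ≤ U i') (a.1 i') := fun i i' =>
        sub_eq_zero.1 (congrFun (LinearMap.mem_ker.1 a.2) (i, i'))
      obtain ⟨F, hF⟩ := exists_oGlue (fun _ => le_top) hUcov a.1 ha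
      obtain ⟨c₀, hc₀⟩ := hX F
      refine ⟨c₀ • b, ?_⟩
      rw [LinearMap.lTensor_tmul, Submodule.subtype_apply, TensorProduct.smul_tmul]
      refine congrArg _ (funext fun i => ?_)
      rw [← hF i, ← hc₀, AlgHom.commutes, Algebra.algebraMap_eq_smul_one]
      rfl
    | add a b ha hb =>
      obtain ⟨c, hc⟩ := ha (by rw [← LinearMap.comp_apply, ← LinearMap.lTensor_comp,
        (LinearMap.exact_subtype_ker_map _).linearMap_comp_eq_zero, LinearMap.lTensor_zero, LinearMap.zero_apply])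
      obtain ⟨c', hc'⟩ := hb (by rw [← LinearMap.comp_apply, ← LinearMap.lTensor_comp,
        (LinearMap.exact_subtype_ker_map _).linearMap_comp_eq_zero, LinearMap.lTensor_zero, LinearMap.zero_apply])
      exact ⟨c + c', by rw [map_add, hc, hc', TensorProduct.add_tmul]⟩
  have hM : ∀ (j j' : κ) (i : ι), p ⁻¹ᵁ U i ⊓ q ⁻¹ᵁ (W j ⊓ W j') ≤ V (i, j) ⊓ V (i, j') := fun j j' i =>
    (inf_le_inf_right _ (p.preimage_mono (le_inf le_rfl le_rfl))).trans
      (hNV (W j ⊓ W j') j j' i i inf_le_left inf_le_right)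
  have hcY : ∀ j j', ∃ c : OSec g (W j ⊓ W j'), ∀ i,
      oRes (hM j j' i) (d' (i, j) (i, j')) = oMap q rfl inf_le_right c := fun j j' => by
    obtain ⟨z, hz⟩ := (hΨ _ (hW2 j j')).2 fun i => oRes (hM j j' i) (d' (i, j) (i, j'))
    obtain ⟨c, rfl⟩ := hker _ z ((hΦ _ (hW2 j j')).1 (by
      rw [map_zero]
      funext i
      rw [hdd, hz, oRes_oRes, oRes_oRes, Pi.zero_apply]
      have hA : p ⁻¹ᵁ (U i.1 ⊓ U i.2) ⊓ q ⁻¹ᵁ (W j ⊓ W j') ≤ V (i.1, j) :=
        (hNV _ j j' i.1 i.2 inf_le_left inf_le_right).trans inf_le_left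
      have hB : p ⁻¹ᵁ (U i.1 ⊓ U i.2) ⊓ q ⁻¹ᵁ (W j ⊓ W j') ≤ V (i.2, j') :=
        (hNV _ j j' i.1 i.2 inf_le_left inf_le_right).trans inf_le_right
      have hC : p ⁻¹ᵁ (U i.1 ⊓ U i.2) ⊓ q ⁻¹ᵁ (W j ⊓ W j') ≤ V (i.2, j) :=
        (hNV _ j j i.1 i.2 inf_le_left inf_le_left).trans inf_le_right
      have hD : p ⁻¹ᵁ (U i.1 ⊓ U i.2) ⊓ q ⁻¹ᵁ (W j ⊓ W j') ≤ V (i.1, j') :=
        (hNV _ j' j' i.1 i.2 inf_le_right inf_le_right).trans inf_le_left
      linear_combination (-(hd'3 _ (i.1, j) (i.1, j') (i.2, j') hA hD hB)) +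
        hd'3 _ (i.1, j) (i.2, j) (i.2, j') hA hC hB + hd'0 i.1 i.2 j _ (le_inf hA hC) -
        hd'0 i.1 i.2 j' _ (le_inf hD hB)))
    refine ⟨c, fun i => ?_⟩
    rw [← congrFun hz i]
    simp [Ψ, box_tmul]
  choose c hc using hcY
  have hsi : ∀ j, W j ≤ s ⁻¹ᵁ V (i₀, j) := fun j => (hsV (U i₀) hi₀ (W j)).trans (s.preimage_mono (hV (i₀, j)).ge)
  have hws : s ≫ q ≫ g = g := by rw [← Category.assoc, hsq, Category.id_comp]
  let e₂ : ∀ j, OSec g (W j) := fun j => oRes (hsi j) (eS (i₀, j)) - oMap s hws (hsi j) (e₁ (i₀, j))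
  have he₂ : ∀ j j', c j j' = oRes inf_le_left (e₂ j) - oRes inf_le_right (e₂ j') := fun j j' => by
    have hO : W j ⊓ W j' ≤ s ⁻¹ᵁ (p ⁻¹ᵁ U i₀ ⊓ q ⁻¹ᵁ (W j ⊓ W j')) := hsV (U i₀) hi₀ _
    have h1 := congrArg (oMap s hws hO) (hc j j' i₀)
    rw [oMap_oMap s, oMap_congr hsq, oMap_one] at h1
    rw [← h1.trans (oMap_id _), oMap_oRes]
    have h2 := congrArg (oRes (f := g) (U := W j ⊓ W j') (le_inf (inf_le_left.trans (hsi j)) (inf_le_right.trans (hsi j'))))
      (heS (i₀, j) (i₀, j'))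
    rw [map_sub, oRes_oMap, oRes_oRes, oRes_oRes] at h2
    simp only [d', map_sub, e₂, oMap_oRes, oRes_oRes, oRes_oMap]
    rw [h2]
    abel
  refine ⟨fun a => e₁ a + oMap q rfl ((hV a).le.trans inf_le_right) (e₂ a.2), fun a b => ?_⟩
  obtain ⟨i, j⟩ := a
  obtain ⟨i', j'⟩ := b
  have hO : V (i, j) ⊓ V (i', j') ≤ p ⁻¹ᵁ (U i ⊓ U i') ⊓ q ⁻¹ᵁ (W j ⊓ W j') := by
    rw [hV, hV]
    exact le_inf (le_inf (inf_le_left.trans inf_le_left) (inf_le_right.trans inf_le_left))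
      (le_inf (inf_le_left.trans inf_le_right) (inf_le_right.trans inf_le_right))
  have hA := (hNV _ j j i i' inf_le_left inf_le_left).trans' hO
  have h1 := hd'3 _ (i, j) (i', j) (i', j') (hA.trans inf_le_left) (hA.trans inf_le_right) inf_le_right
  rw [hd'0 i i' j, zero_add] at h1
  have hMi : V (i, j) ⊓ V (i', j') ≤ p ⁻¹ᵁ U i' ⊓ q ⁻¹ᵁ (W j ⊓ W j') :=
    hO.trans (inf_le_inf_right _ (p.preimage_mono inf_le_right))
  have h2 := congrArg (oRes hMi) (hc j j' i')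
  simp only [oRes_oRes, oRes_oMap, he₂, map_sub, oMap_oRes] at h2
  rw [show oRes (le_inf inf_le_left inf_le_right) (d' (i, j) (i', j')) = d' (i, j) (i', j') from oMap_id _] at h1
  simp only [map_add, oRes_oMap]
  have h3 : d' (i, j) (i', j') = d (i, j) (i', j') - (oRes inf_le_left (e₁ (i, j)) - oRes inf_le_right (e₁ (i', j'))) :=
    rfl
  linear_combination h1 + h2 - h3

end Product

end Groth.Agent.CubeLib
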