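import Groth.Agent.CubeLib.Artin
import Groth.Agent.BCLib.TrivNhd
import Groth.Agent.BCLib.Trunc
import Mathlib.RingTheory.Filtration

/-!
# An invertible module trivial on all infinitesimal neighbourhoods of a fibre is trivial near the fibre
-/

set_option autoImplicit false
set_option backward.isDefEq.respectTransparency false
set_option backward.defeqAttrib.useBackward true
set_option linter.style.haveILetI false

universe u

open CategoryTheory CategoryTheory.Limits AlgebraicGeometry TopologicalSpace Opposite TensorProduct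
open Groth.Agent.CohBase Groth.Agent.ProjCoh Groth.Agent.FormalLib Groth.Agent.PullbackMod Groth.Agent.ParaFLib
  Groth.Agent.AmpleLib

noncomputable section

namespace Groth.Agent.CubeLib

theorem germ_secHom_mem_maximalIdeal {R : CommRingCat.{u}} {X : Scheme.{u}} (f : X ⟶ Spec R) {W : X.Opens} {x : X}
    (hx : x ∈ W) {r : R} (hr : r ∈ (f x).asIdeal) :
    X.presheaf.germ W x hx ((BCLib.secHom f W).hom r) ∈ IsLocalRing.maximalIdeal (X.presheaf.stalk x) := by
  rw [IsLocalRing.mem_maximalIdeal, mem_nonunits_iff, ← Scheme.mem_basicOpen _ _ _ hx]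
  intro h
  rw [BCLib.secHom] at h
  rw [CommRingCat.hom_comp, CommRingCat.hom_comp, RingHom.comp_apply, RingHom.comp_apply] at h
  rw [Scheme.basicOpen_res] at h
  have h2 : x ∈ f ⁻¹ᵁ (Spec R).basicOpen ((Scheme.ΓSpecIso R).inv.hom r) := by
    rw [Scheme.preimage_basicOpen_top]; exact h.2
  rw [basicOpen_eq_of_affine'] at h2
  simp only [Iso.inv_hom_id_apply] at h2
  exact h2 hr

theorem exists_smul_top_eq {A : Type u} [CommRing A] [IsNoetherianRing A] {Q P : Type u} [AddCommGroup Q] [Module A Q]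
    [AddCommGroup P] [Module A P] [Module.Finite A P] (δ : Q →ₗ[A] P) (I : Ideal A) :
    ∃ n, ∀ v : Q, δ v ∈ I ^ n • (⊤ : Submodule A P) → ∃ l, δ l = 0 ∧ l - v ∈ I • (⊤ : Submodule A Q) := by
  obtain ⟨k, hk⟩ := Ideal.exists_pow_inf_eq_pow_smul I (LinearMap.range δ)
  refine ⟨k + 1, fun v hv => ?_⟩
  have h1 : δ v ∈ I ^ (k + 1) • (⊤ : Submodule A P) ⊓ LinearMap.range δ := ⟨hv, LinearMap.mem_range_self _ _⟩
  rw [hk (k + 1) (Nat.le_succ k), Nat.add_sub_cancel_left, pow_one] at h1
  have h2 : δ v ∈ Submodule.map δ (I • (⊤ : Submodule A Q)) := by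
    rw [Submodule.map_smul'', Submodule.map_top]
    exact Submodule.smul_mono le_rfl inf_le_right h1
  obtain ⟨e, he, hev⟩ := h2
  refine ⟨v - e, by rw [map_sub, hev, sub_self], ?_⟩
  rw [sub_sub_cancel_left]
  exact neg_mem he

/-- A section generating along the closed fibre, from triviality on all truncations. -/
theorem exists_sec_gen_of_quot {R : CommRingCat.{u}} [IsNoetherianRing R] {X : Scheme.{u}}
    [X.Over (Spec (CommRingCat.of R))] [IsProper (str R X)] [Flat (str R X)] {P : X.Modules}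
    (hP : PicF.IsInvertible P) (q : Spec R)
    (h : ∀ n : ℕ, Triv ((Scheme.Modules.pullback (pullback.fst (str R X)
      (Spec.map (CommRingCat.ofHom (Ideal.Quotient.mk (q.asIdeal ^ (n + 1))))))).obj P)) :
    ∃ t : Coh.structureModule X ⟶ P, ∀ x : X, str R X x = q → x ∈ CohB1.genLocus P t := by
  haveI : IsLocallyNoetherian X := LocallyOfFiniteType.isLocallyNoetherian (str R X)
  haveI := Groth.Agent.InvExt.isQCoh_of_isInvertible hP
  obtain ⟨ι, hι, V, hcov, haff, L, ψ, hfin, hflat, -, -, hψ⟩ := BCLib.exists_cover_bij (A := R)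
    (CurveLib.isCoh_of_isInvertible hP)
    (TildePerf.isFlatOver_of_isFinLocFree _ (CurveLib.isFinLocFree_of_isInvertible hP))
  haveI := hfin 1
  obtain ⟨n, hn⟩ := exists_smul_top_eq (L.d 0) q.asIdeal
  let I := q.asIdeal ^ (n + 1)
  let B := CommRingCat.of (R ⧸ I)
  let φ : R ⟶ B := CommRingCat.ofHom (Ideal.Quotient.mk I)
  let X' := pullback (str R X) (Spec.map φ)
  letI : X'.Over (Spec (CommRingCat.of B)) := ⟨pullback.snd _ _⟩
  let g' : X' ⟶ X := pullback.fst _ _
  have hc : IsPullback g' (str B X') (str R X) (Spec.map φ) := IsPullback.of_hasPullback _ _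
  obtain ⟨τ, hτ⟩ := h n
  letI := φ.hom.toAlgebra
  let G' := (Scheme.Modules.pullback g').obj P
  let V' := ProperFin.preCov g' V
  letI := Module.compHom (Coch (str B X') G' V' 0) φ.hom
  haveI : IsScalarTower R B (Coch (str B X') G' V' 0) := .of_algebraMap_smul fun _ _ => rfl
  letI := Module.compHom (Coch (str B X') G' V' 1) φ.hom
  haveI : IsScalarTower R B (Coch (str B X') G' V' 1) := .of_algebraMap_smul fun _ _ => rfl
  let e₀ : ∀ m, (BCLib.cechCx R V P).X m ≃ₗ[R] Coch (str R X) P V m :=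
    fun m => BCLib.cochEquiv V (BCLib.tensorASelfIso R P) m
  have he₀ : ∀ m y, dL (str R X) P V m (e₀ m y) = e₀ (m + 1) ((BCLib.cechCx R V P).d m y) := fun m y =>
    dL_cochMap V _ m y
  let Θ₀ := (e₀ 0).baseChange R B ≪≫ₗ (BCLib.isBaseChange_pullCoch g' φ hc V P haff 0).equiv
  let Θ₁ := (e₀ 1).baseChange R B ≪≫ₗ (BCLib.isBaseChange_pullCoch g' φ hc V P haff 1).equiv
  have hΘ : ∀ z, dL (str B X') G' V' 0 (Θ₀ z) = Θ₁ (((BCLib.cechCx R V P).d 0).baseChange B z) := fun z => by
    induction z using TensorProduct.induction_on with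
    | zero => simp only [map_zero]
    | tmul b c =>
      simp only [Θ₀, Θ₁, LinearEquiv.trans_apply, LinearMap.baseChange_tmul, LinearEquiv.baseChange_tmul]
      refine (congrArg _ (IsBaseChange.equiv_tmul (BCLib.isBaseChange_pullCoch g' φ hc V P haff 0) b (e₀ 0 c))).trans ?_
      refine Eq.trans ?_ (IsBaseChange.equiv_tmul (BCLib.isBaseChange_pullCoch g' φ hc V P haff 1) b _).symm
      exact (map_smul (dL (str B X') G' V' 0) b _).trans
        (congrArg (b • ·) ((BCLib.dL_pullCoch g' φ hc V P 0 _).trans (congrArg _ (he₀ 0 c))))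
    | add a b ha hb => simp only [map_add, ha, hb]
  let c' : Coch (str B X') G' V' 0 := aug V' (Coh.toAb G').obj (fun _ => le_top) τ
  have hc' : dL (str B X') G' V' 0 c' = 0 := (dL_eq _ _ _ _ _).trans (cdiff_aug _ _ _)
  have hzB : Θ₀.symm c' ∈ (BCLib.cechCx R V P).zBC B 0 := LinearMap.mem_ker.2 (Θ₁.injective
    ((hΘ _).symm.trans ((congrArg _ (Θ₀.apply_symm_apply c')).trans (hc'.trans (map_zero _).symm))))
  obtain ⟨zL, hzL, hzL'⟩ := (ψ.bijBC B (hψ B) 0).1 _ hzB
  have hzL'' : (ψ.f 0).baseChange B zL = Θ₀.symm c' := (sub_eq_zero.1 ((Submodule.mem_bot B).1 hzL')).symm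
  obtain ⟨v, rfl⟩ := TensorProduct.mk_surjective R (L.X 0) B Ideal.Quotient.mk_surjective zL
  obtain ⟨l, hdl, hlv⟩ := hn v (by
    have h0 : (1 : R ⧸ I) ⊗ₜ[R] L.d 0 v = 0 := LinearMap.mem_ker.1 hzL
    have h1 := congrArg (TensorProduct.comm R _ _) h0
    rw [map_zero, TensorProduct.comm_tmul, BCLib.tmul_one_eq_zero_iff] at h1
    exact Submodule.smul_mono (Ideal.pow_le_pow_right (Nat.le_succ n)) le_rfl h1)
  let w : Coch (str R X) P V 0 := e₀ 0 (ψ.f 0 v)
  let k₀ : Coch (str R X) P V 0 := e₀ 0 (ψ.f 0 l)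
  have hk₀ : cdiff V (Coh.toAb P).obj 0 k₀ = 0 := by
    rw [← dL_eq (p := str R X) (M := P), he₀ 0, ψ.comm_apply 0 l, hdl, map_zero, map_zero]
  obtain ⟨s, hs⟩ := aug_exact (Coh.toAb P) (V := ⊤) (fun _ => le_top) hcov k₀ hk₀
  have hpull : BCLib.pullCoch g' φ hc V P 0 w = c' := by
    have h2 : Θ₀ ((1 : B) ⊗ₜ[R] ψ.f 0 v) = BCLib.pullCoch g' φ hc V P 0 w := by
      simp only [Θ₀, LinearEquiv.trans_apply, LinearEquiv.baseChange_tmul]
      exact (IsBaseChange.equiv_tmul _ _ _).trans (one_smul _ _)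
    rw [← h2, ← LinearMap.baseChange_tmul]
    exact (congrArg Θ₀ hzL'').trans (Θ₀.apply_symm_apply c')
  have hdiff : k₀ - w ∈ q.asIdeal • (⊤ : Submodule R (Coch (str R X) P V 0)) := by
    have h3 := Submodule.mem_map_of_mem (f := (e₀ 0).toLinearMap ∘ₗ ψ.f 0) hlv
    rw [Submodule.map_smul''] at h3
    have h4 := Submodule.smul_mono (le_refl q.asIdeal) (le_top (a := Submodule.map ((e₀ 0).toLinearMap ∘ₗ ψ.f 0) ⊤)) h3
    simpa only [k₀, w, LinearMap.comp_apply, map_sub, LinearEquiv.coe_coe] using h4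
  refine ⟨DCohLib.secHom P s, fun x hx => ?_⟩
  rw [mem_genLocus_iff hP, sec_secHom]
  obtain ⟨z, hz⟩ : ∃ z, g' z = x := by
    have : x ∈ Set.range g' := by
      rw [Scheme.Pullback.range_fst]
      show str R X x ∈ Set.range (Spec.map φ)
      rw [hx]
      show q ∈ Set.range (PrimeSpectrum.comap (Ideal.Quotient.mk I))
      rw [range_comap_of_surjective _ _ Ideal.Quotient.mk_surjective, PrimeSpectrum.mem_zeroLocus,
        Ideal.mk_ker]
      exact Ideal.pow_le_self (Nat.succ_ne_zero n)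
    exact this
  subst hz
  obtain ⟨a₀, ha₀⟩ := Opens.mem_iSup.1 (hcov (show g' z ∈ (⊤ : X.Opens) from trivial))
  let i : Fin 1 → ι := fun _ => a₀
  have hxi : g' z ∈ inter V i := (le_iInf fun _ => le_rfl : V a₀ ≤ inter V i) ha₀
  have hzi : z ∈ inter V' i := (ProperFin.inter_preCov g' V i).le hxi
  obtain ⟨b, hb⟩ := exists_stalk_gen hP (g' z)
  have hwb : ∃ u : X.presheaf.stalk (g' z), IsUnit u ∧ u • b = P.presheaf.germ (inter V i) (g' z) hxi (w i) := by
    obtain ⟨u, hu⟩ := hb.2 (P.presheaf.germ (inter V i) (g' z) hxi (w i))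
    change u • b = _ at hu
    refine ⟨u, isUnit_of_map_unit (g'.stalkMap z).hom u ?_, hu⟩
    rw [← AmpleLib.bijective_smul_iff (bijective_pullStalk g' z hb)]
    have h4 := (hτ.res (le_top : inter V' i ≤ ⊤)).bijective_germ z hzi
    have h5 : ((Scheme.Modules.pullback g').obj P).presheaf.map (homOfLE (le_top : inter V' i ≤ ⊤)).op τ =
        pullMap g' P (ProperFin.inter_preCov g' V i).ge (w i) := (congrFun hpull i).symm
    rw [h5, ← pullStalk_germ' g' P z hxi hzi, ← hu, pullStalk_smul] at h4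
    exact h4
  obtain ⟨u, hu, hub⟩ := hwb
  have hm : ∀ c ∈ q.asIdeal • (⊤ : Submodule R (Coch (str R X) P V 0)),
      ∃ a ∈ IsLocalRing.maximalIdeal (X.presheaf.stalk (g' z)),
        a • b = P.presheaf.germ (inter V i) (g' z) hxi (c i) := fun c hc => by
    refine Submodule.smul_induction_on hc (fun r hr c _ => ?_) (fun c c' hc hc' => ?_)
    · obtain ⟨a, ha⟩ := hb.2 (P.presheaf.germ (inter V i) (g' z) hxi (c i))
      change a • b = _ at ha
      refine ⟨X.presheaf.germ _ _ hxi ((BCLib.secHom (str R X) (inter V i)).hom r) * a,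
        Ideal.mul_mem_right _ _ (germ_secHom_mem_maximalIdeal (str R X) hxi (hx.symm ▸ hr)), ?_⟩
      rw [mul_smul, ha, ← germ_smul']
      rfl
    · obtain ⟨a, ha, hab⟩ := hc
      obtain ⟨a', ha', hab'⟩ := hc'
      exact ⟨a + a', add_mem ha ha', by rw [add_smul, hab, hab', ← map_add]; rfl⟩
  obtain ⟨a, ha, hab⟩ := hm _ hdiff
  have hsi : P.presheaf.germ ⊤ (g' z) trivial s = (u + a) • b := by
    rw [add_smul, hub, hab, ← map_add]
    have e1 : P.presheaf.map (homOfLE (le_top : inter V i ≤ ⊤)).op s = w i + (k₀ - w) i := by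
      show _ = w i + (k₀ i - w i)
      rw [add_sub_cancel]
      exact congrFun hs i
    exact (TopCat.Presheaf.germ_res_apply _ _ _ hxi s).symm.trans (congrArg _ e1)
  rw [hsi, AmpleLib.bijective_smul_iff hb]
  by_contra hnu
  have : u + a - a ∈ IsLocalRing.maximalIdeal (X.presheaf.stalk (g' z)) := sub_mem hnu ha
  rw [add_sub_cancel_right] at this
  exact this hu

end Groth.Agent.CubeLib
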