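import Groth.Agent.CubeLib.Small

/-!
# The cube theorem along a small extension
-/

set_option autoImplicit false
set_option backward.isDefEq.respectTransparency false
set_option backward.defeqAttrib.useBackward true
set_option linter.style.haveILetI false

universe u

open CategoryTheory CategoryTheory.Limits AlgebraicGeometry TopologicalSpace Opposite
open Groth.Agent.PullbackMod Groth.Agent.ParaFLib Groth.Agent.AmpleLib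

noncomputable section

namespace Groth.Agent.CubeLib

theorem ap_secHom_over {R : CommRingCat.{u}} {X P : Scheme.{u}} {f : X ⟶ Spec R} {fP : P ⟶ Spec R} {t : X ⟶ P}
    (ht : t ≫ fP = f) {V : P.Opens} {U : X.Opens} (e : U ≤ t ⁻¹ᵁ V) (r : R) :
    ap t e ((BCLib.secHom fP V).hom r) = (BCLib.secHom f U).hom r :=
  ap_secHom (φ := 𝟙 R) (by rw [Spec.map_id, Category.comp_id, ht]) e r

namespace SmallExt

variable {R R' : CommRingCat.{u}} {k : Type u} [Field k] {φ : R ⟶ R'} {φ₀ : R ⟶ CommRingCat.of k} {ε : R}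
  (S : SmallExt φ φ₀ ε)

section Slice

variable {X X' X₀ P P₀ : Scheme.{u}} {f : X ⟶ Spec R} {f' : X' ⟶ Spec R'} {f₀ : X₀ ⟶ Spec (CommRingCat.of k)}
  {g : X' ⟶ X} {g₀ : X₀ ⟶ X} {fP : P ⟶ Spec R} {gP₀ : P₀ ⟶ P} {L : P.Modules} {κ : Type u} {V : κ → P.Opens}
  {σ : ∀ a, Γ(L, V a)} {h : ∀ a b, Γ(P, V a ⊓ V b)}

include S in
/-- On a slice over which `L` is trivial the cocycle is a coboundary. -/
theorem slice (hc : IsPullback g f' f (Spec.map φ)) (hc₀ : IsPullback g₀ f₀ f (Spec.map φ₀)) [Flat f]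
    [IsSeparated f] (h' : IsConst f') [Nontrivial Γ(X₀, ⊤)] (t : X ⟶ P) (ht : t ≫ fP = f) [IsAffineHom t]
    (t₀ : X₀ ⟶ P₀) (ht₀ : t₀ ≫ gP₀ = g₀ ≫ t) (hL : PicF.IsInvertible L) (hV : ∀ a, IsAffineOpen (V a))
    (hcov : (⊤ : P.Opens) ≤ iSup V) (hσ : ∀ a, Gen (V a) (σ a))
    (hh : ∀ a b, L.presheaf.map (homOfLE (inf_le_left : V a ⊓ V b ≤ V a)).op (σ a) =
      (1 + E ε fP (V a ⊓ V b) * h a b) • L.presheaf.map (homOfLE (inf_le_right : V a ⊓ V b ≤ V b)).op (σ b))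
    (htriv : Triv ((Scheme.Modules.pullback t).obj L)) :
    ∃ e : ∀ a, Γ(X₀, t₀ ⁻¹ᵁ (gP₀ ⁻¹ᵁ V a)), ∀ a b,
      ap t₀ (le_refl (t₀ ⁻¹ᵁ (gP₀ ⁻¹ᵁ V a) ⊓ t₀ ⁻¹ᵁ (gP₀ ⁻¹ᵁ V b)))
          (ap gP₀ (le_refl (gP₀ ⁻¹ᵁ V a ⊓ gP₀ ⁻¹ᵁ V b)) (h a b)) =
        rs inf_le_left (e a) - rs inf_le_right (e b) := by
  obtain ⟨τ, hτ⟩ := htriv
  let U : κ → X.Opens := fun a => t ⁻¹ᵁ V a
  have hU : ∀ a, IsAffineOpen (U a) := fun a => (hV a).preimage t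
  have hcovU : (⊤ : X.Opens) ≤ iSup U := fun z _ => by
    obtain ⟨a, ha⟩ := Opens.mem_iSup.1 (hcov (show t z ∈ (⊤ : P.Opens) from trivial))
    exact Opens.mem_iSup.2 ⟨a, ha⟩
  choose c hcu hc' using fun a => (gen_pullMap t hL (hσ a) (le_refl (U a))).exists_unit (hτ.res (le_top : U a ≤ ⊤))
  let h₁ : ∀ a b, Γ(X, U a ⊓ U b) := fun a b => ap t (le_refl (U a ⊓ U b)) (h a b)
  have hov : ∀ a b, rs (inf_le_left : U a ⊓ U b ≤ U a) (c a) =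
      (1 + E ε f (U a ⊓ U b) * h₁ a b) * rs (inf_le_right : U a ⊓ U b ≤ U b) (c b) := fun a b => by
    have e1 := congrArg (pullMap t L (le_refl (U a ⊓ U b) : U a ⊓ U b ≤ t ⁻¹ᵁ (V a ⊓ V b))) (hh a b)
    rw [pullMap_smul, ← pullMap_res t L (le_refl (U a)) inf_le_left inf_le_left _,
      ← pullMap_res t L (le_refl (U b)) inf_le_right inf_le_right _, ← hc' a, ← hc' b, Scheme.Modules.map_smul,
      Scheme.Modules.map_smul, res_res, res_res, ← mul_smul] at e1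
    have e2 := (hτ _ (le_top : U a ⊓ U b ≤ ⊤)).1 e1
    refine e2.trans (congrArg (· * _) ?_)
    show ap t _ (1 + E ε fP (V a ⊓ V b) * h a b) = _
    rw [map_add, map_one, map_mul, E, ap_secHom_over ht]
  obtain ⟨F, hF⟩ := exists_glue (fun _ => le_top) (show (⊤ : X'.Opens) ≤ ⨆ a, g ⁻¹ᵁ U a from fun z _ => by
      obtain ⟨a, ha⟩ := Opens.mem_iSup.1 (hcovU (show g z ∈ (⊤ : X.Opens) from trivial))
      exact Opens.mem_iSup.2 ⟨a, ha⟩) (fun a => ap g (le_refl (g ⁻¹ᵁ U a)) (c a)) (fun a b => by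
    have e1 := congrArg (ap g (le_refl (g ⁻¹ᵁ U a ⊓ g ⁻¹ᵁ U b))) (hov a b)
    rw [map_mul, map_add, map_one, map_mul, E, ap_secHom hc.w, S.eps, map_zero, zero_mul, add_zero, one_mul,
      ap_rs, ap_rs] at e1
    rw [rs_ap, rs_ap]
    exact e1)
  obtain ⟨r', hr'⟩ := h' F
  obtain ⟨r, rfl⟩ := S.surj r'
  have hloc : ∀ a, ∃ H, c a = (BCLib.secHom f (U a)).hom r + E ε f (U a) * H := fun a =>
    S.exists_eq_add hc (hU a) (by rw [ap_secHom hc.w, ← hF a, ← hr', rs_secHom])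
  choose H hH using hloc
  have hr0 : φ₀.hom r ≠ 0 := fun h0 => by
    refine zero_ne_one (α := Γ(X₀, ⊤)) (eq_of_cover (fun _ => le_top)
      (show (⊤ : X₀.Opens) ≤ ⨆ a, g₀ ⁻¹ᵁ U a from fun z _ => by
        obtain ⟨a, ha⟩ := Opens.mem_iSup.1 (hcovU (show g₀ z ∈ (⊤ : X.Opens) from trivial))
        exact Opens.mem_iSup.2 ⟨a, ha⟩) fun a => ?_)
    have hu := (hcu a).map (ap g₀ (le_refl (g₀ ⁻¹ᵁ U a)))
    rw [hH a, map_add, map_mul, ap_secHom hc₀.w, ap_secHom hc₀.w, h0, S.eps₀, map_zero, zero_mul, add_zero] at hu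
    haveI := isUnit_zero_iff.1 hu
    rw [map_zero, map_one]
    exact this
  have key : ∀ a b, ap g₀ (le_refl (g₀ ⁻¹ᵁ U a ⊓ g₀ ⁻¹ᵁ U b)) (h₁ a b) * (BCLib.secHom f₀ _).hom (φ₀.hom r) =
      ap g₀ (inf_le_left : g₀ ⁻¹ᵁ U a ⊓ g₀ ⁻¹ᵁ U b ≤ g₀ ⁻¹ᵁ U a) (H a) -
        ap g₀ (inf_le_right : g₀ ⁻¹ᵁ U a ⊓ g₀ ⁻¹ᵁ U b ≤ g₀ ⁻¹ᵁ U b) (H b) := fun a b => by
    have e1 := hov a b
    rw [hH a, hH b] at e1
    simp only [map_add, map_mul, E, rs_secHom] at e1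
    have e2 := S.ap₀_eq hc₀ (isAffineOpen_inf f (hU a) (hU b))
      (a := h₁ a b * (BCLib.secHom f _).hom r) (b := rs inf_le_left (H a) - rs inf_le_right (H b)) (by
        simp only [E]
        linear_combination -e1 - rs (inf_le_right : U a ⊓ U b ≤ U b) (H b) * h₁ a b * S.E_mul_E (f := f) (U a ⊓ U b))
      (W' := g₀ ⁻¹ᵁ U a ⊓ g₀ ⁻¹ᵁ U b) le_rfl
    rw [map_mul, ap_secHom hc₀.w, map_sub, ap_rs, ap_rs] at e2
    exact e2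
  have hle : ∀ a, t₀ ⁻¹ᵁ (gP₀ ⁻¹ᵁ V a) ≤ g₀ ⁻¹ᵁ U a := fun a =>
    le_of_eq (show (t₀ ≫ gP₀) ⁻¹ᵁ V a = (g₀ ≫ t) ⁻¹ᵁ V a by rw [ht₀])
  refine ⟨fun a => (BCLib.secHom f₀ _).hom (φ₀.hom r)⁻¹ * ap g₀ (hle a) (H a), fun a b => ?_⟩
  have e3 := congrArg (rs (inf_le_inf (hle a) (hle b))) (key a b)
  simp only [h₁, map_mul, map_sub, rs_secHom, rs_ap, ap_ap] at e3 ⊢
  rw [ap_congr ht₀]
  erw [rs_secHom, rs_secHom]
  erw [rs_secHom] at e3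
  have hinv : (BCLib.secHom f₀ (t₀ ⁻¹ᵁ (gP₀ ⁻¹ᵁ V a) ⊓ t₀ ⁻¹ᵁ (gP₀ ⁻¹ᵁ V b))).hom (φ₀.hom r) *
      (BCLib.secHom f₀ (t₀ ⁻¹ᵁ (gP₀ ⁻¹ᵁ V a) ⊓ t₀ ⁻¹ᵁ (gP₀ ⁻¹ᵁ V b))).hom (φ₀.hom r)⁻¹ = 1 := by
    rw [← map_mul, mul_inv_cancel₀ hr0, map_one]
  generalize ap (g₀ ≫ t) _ (h a b) = D at e3 ⊢
  linear_combination (BCLib.secHom f₀ (t₀ ⁻¹ᵁ (gP₀ ⁻¹ᵁ V a) ⊓ t₀ ⁻¹ᵁ (gP₀ ⁻¹ᵁ V b))).hom (φ₀.hom r)⁻¹ * e3 - D * hinv

end Slice

variable {X Y P X' Y' P' X₀ Y₀ P₀ : Scheme.{u}} {fX : X ⟶ Spec R} {fY : Y ⟶ Spec R} {p : P ⟶ X} {q : P ⟶ Y}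
  {fX' : X' ⟶ Spec R'} {fY' : Y' ⟶ Spec R'} {fP' : P' ⟶ Spec R'}
  {fX₀ : X₀ ⟶ Spec (CommRingCat.of k)} {fY₀ : Y₀ ⟶ Spec (CommRingCat.of k)} {fP₀ : P₀ ⟶ Spec (CommRingCat.of k)}
  {gX : X' ⟶ X} {gY : Y' ⟶ Y} {gP : P' ⟶ P} {gX₀ : X₀ ⟶ X} {gY₀ : Y₀ ⟶ Y} {gP₀ : P₀ ⟶ P}

include S in
/-- The cube theorem along a small extension. -/
theorem triv_step [Flat fX] [Flat fY] [IsSeparated fX] [IsSeparated fY] [QuasiCompact fX] [QuasiCompact fY]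
    (hP : IsPullback p q fX fY)
    (hcX : IsPullback gX fX' fX (Spec.map φ)) (hcY : IsPullback gY fY' fY (Spec.map φ))
    (hcP : IsPullback gP fP' (q ≫ fY) (Spec.map φ)) (hgP : Function.Surjective gP)
    (hcX₀ : IsPullback gX₀ fX₀ fX (Spec.map φ₀)) (hcY₀ : IsPullback gY₀ fY₀ fY (Spec.map φ₀))
    (hcP₀ : IsPullback gP₀ fP₀ (q ≫ fY) (Spec.map φ₀))
    (hX' : IsConst fX') (hY' : IsConst fY') (hX₀ : IsConst fX₀) (hY₀ : IsConst fY₀)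
    (x : Spec R ⟶ X) (hx : x ≫ fX = 𝟙 _) (y : Spec R ⟶ Y) (hy : y ≫ fY = 𝟙 _)
    (s : Y ⟶ P) (hsp : s ≫ p = fY ≫ x) (hsq : s ≫ q = 𝟙 Y)
    (t : X ⟶ P) (htp : t ≫ p = 𝟙 X) (htq : t ≫ q = fX ≫ y)
    (L : P.Modules) (hL : PicF.IsInvertible L) (hs : Triv ((Scheme.Modules.pullback s).obj L))
    (ht : Triv ((Scheme.Modules.pullback t).obj L)) (hL' : Triv ((Scheme.Modules.pullback gP).obj L)) :
    Triv L := by
  haveI : Flat q := MorphismProperty.of_isPullback hP ‹Flat fX›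
  haveI : IsSeparated q := MorphismProperty.of_isPullback hP ‹IsSeparated fX›
  haveI : IsSeparated p := MorphismProperty.of_isPullback hP.flip ‹IsSeparated fY›
  haveI : IsClosedImmersion t := by
    haveI : IsClosedImmersion (t ≫ p) := by rw [htp]; infer_instance
    exact IsClosedImmersion.of_comp t p
  haveI : IsClosedImmersion s := by
    haveI : IsClosedImmersion (s ≫ q) := by rw [hsq]; infer_instance
    exact IsClosedImmersion.of_comp s q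
  haveI : CompactSpace X := QuasiCompact.compactSpace_of_compactSpace fX
  haveI : CompactSpace Y := QuasiCompact.compactSpace_of_compactSpace fY
  obtain ⟨ι, _, U, hU, -, hUcov⟩ := QCohLib.exists_finite_affine_cover (V := (⊤ : X.Opens)) isCompact_univ
  obtain ⟨ι', _, W, hW, -, hWcov⟩ := QCohLib.exists_finite_affine_cover (V := (⊤ : Y.Opens)) isCompact_univ
  let V : ι × ι' → P.Opens := fun a => p ⁻¹ᵁ U a.1 ⊓ q ⁻¹ᵁ W a.2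
  have hV : ∀ a, IsAffineOpen (V a) := fun a =>
    (isPushout_appLE hP (isAffineOpen_top (Spec R)) (hU a.1) (hW a.2) le_top le_top).1
  have hcov : (⊤ : P.Opens) ≤ iSup V := fun z _ => by
    obtain ⟨i, hi⟩ := Opens.mem_iSup.1 (hUcov (show p z ∈ (⊤ : X.Opens) from trivial))
    obtain ⟨j, hj⟩ := Opens.mem_iSup.1 (hWcov (show q z ∈ (⊤ : Y.Opens) from trivial))
    exact Opens.mem_iSup.2 ⟨(i, j), hi, hj⟩
  obtain ⟨σ, h, hσ, hh⟩ := S.exists_frame hcP hL hgP hV hL'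
  let d : ∀ a b, Γ(P₀, gP₀ ⁻¹ᵁ V a ⊓ gP₀ ⁻¹ᵁ V b) := fun a b =>
    ap gP₀ (le_refl (gP₀ ⁻¹ᵁ V a ⊓ gP₀ ⁻¹ᵁ V b)) (h a b)
  let q₀ : P₀ ⟶ Y₀ := hcY₀.lift (gP₀ ≫ q) fP₀ (by rw [Category.assoc, hcP₀.w])
  let p₀ : P₀ ⟶ X₀ := hcX₀.lift (gP₀ ≫ p) fP₀ (by rw [Category.assoc, hP.w, hcP₀.w])
  have hq₀ : q₀ ≫ gY₀ = gP₀ ≫ q := hcY₀.lift_fst _ _ _
  have hq₀' : q₀ ≫ fY₀ = fP₀ := hcY₀.lift_snd _ _ _
  have hp₀ : p₀ ≫ gX₀ = gP₀ ≫ p := hcX₀.lift_fst _ _ _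
  have hp₀' : p₀ ≫ fX₀ = fP₀ := hcX₀.lift_snd _ _ _
  have hA : IsPullback gP₀ q₀ q gY₀ := by
    refine IsPullback.of_bot ?_ hq₀.symm hcY₀
    rw [hq₀']
    exact hcP₀
  have hP₀ : IsPullback p₀ q₀ fX₀ fY₀ := by
    refine IsPullback.of_right ?_ (hp₀'.trans hq₀'.symm) hcX₀
    rw [hp₀, ← hcY₀.w]
    exact hA.paste_horiz hP
  let x₀ : Spec (CommRingCat.of k) ⟶ X₀ := hcX₀.lift (Spec.map φ₀ ≫ x) (𝟙 _) (by rw [Category.assoc, hx, Category.comp_id, Category.id_comp])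
  let y₀ : Spec (CommRingCat.of k) ⟶ Y₀ := hcY₀.lift (Spec.map φ₀ ≫ y) (𝟙 _) (by rw [Category.assoc, hy, Category.comp_id, Category.id_comp])
  have hx₀ : x₀ ≫ gX₀ = Spec.map φ₀ ≫ x := hcX₀.lift_fst _ _ _
  have hy₀ : y₀ ≫ gY₀ = Spec.map φ₀ ≫ y := hcY₀.lift_fst _ _ _
  have hsP : s ≫ q ≫ fY = fY := by rw [← Category.assoc, hsq, Category.id_comp]
  have htP : t ≫ q ≫ fY = fX := by rw [← Category.assoc, htq, Category.assoc, hy, Category.comp_id]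
  let s₀ : Y₀ ⟶ P₀ := hcP₀.lift (gY₀ ≫ s) fY₀ (by rw [Category.assoc, hsP, hcY₀.w])
  let t₀ : X₀ ⟶ P₀ := hcP₀.lift (gX₀ ≫ t) fX₀ (by rw [Category.assoc, htP, hcX₀.w])
  have hs₀ : s₀ ≫ gP₀ = gY₀ ≫ s := hcP₀.lift_fst _ _ _
  have hs₀' : s₀ ≫ fP₀ = fY₀ := hcP₀.lift_snd _ _ _
  have ht₀ : t₀ ≫ gP₀ = gX₀ ≫ t := hcP₀.lift_fst _ _ _
  have ht₀' : t₀ ≫ fP₀ = fX₀ := hcP₀.lift_snd _ _ _
  have hnt : ∀ {Z : Scheme.{u}} (f : Z ⟶ Spec (CommRingCat.of k)) (z : Spec (CommRingCat.of k) ⟶ Z),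
      z ≫ f = 𝟙 _ → Nontrivial Γ(Z, ⊤) := fun {Z} f z hz => by
    haveI : Nontrivial Γ(Spec (CommRingCat.of k), ⊤) :=
      (Scheme.ΓSpecIso (CommRingCat.of k)).symm.commRingCatIsoToRingEquiv.injective.nontrivial
    exact RingHom.domain_nontrivial z.appTop.hom
  haveI : Nontrivial Γ(X₀, ⊤) := hnt fX₀ x₀ (hcX₀.lift_snd _ _ _)
  haveI : Nontrivial Γ(Y₀, ⊤) := hnt fY₀ y₀ (hcY₀.lift_snd _ _ _)
  obtain ⟨eT, heT⟩ := S.slice hcX hcX₀ hX' t htP t₀ ht₀ hL hV hcov hσ hh ht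
  obtain ⟨eS, heS⟩ := S.slice hcY hcY₀ hY' s hsP s₀ hs₀ hL hV hcov hσ hh hs
  obtain ⟨e, he⟩ := exists_coboundary hP₀ (fun i => gX₀ ⁻¹ᵁ U i) (fun j => gY₀ ⁻¹ᵁ W j)
    (fun i => (BCLib.isPushout_secHom hcX₀ (hU i)).1)
    (fun i i' => (BCLib.isPushout_secHom hcX₀ (isAffineOpen_inf fX (hU i) (hU i'))).1)
    (fun z _ => by
      obtain ⟨i, hi⟩ := Opens.mem_iSup.1 (hUcov (show gX₀ z ∈ (⊤ : X.Opens) from trivial))
      exact Opens.mem_iSup.2 ⟨i, hi⟩)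
    (fun j => (BCLib.isPushout_secHom hcY₀ (hW j)).1)
    (fun j j' => (BCLib.isPushout_secHom hcY₀ (isAffineOpen_inf fY (hW j) (hW j'))).1)
    (fun z _ => by
      obtain ⟨j, hj⟩ := Opens.mem_iSup.1 (hWcov (show gY₀ z ∈ (⊤ : Y.Opens) from trivial))
      exact Opens.mem_iSup.2 ⟨j, hj⟩)
    hX₀ hY₀ x₀ (hcX₀.lift_snd _ _ _) y₀ (hcY₀.lift_snd _ _ _)
    s₀ (by
      refine hcX₀.hom_ext ?_ ?_
      · rw [Category.assoc, Category.assoc, hp₀, hx₀, ← Category.assoc, hs₀, Category.assoc, hsp,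
          ← Category.assoc, hcY₀.w, Category.assoc]
      · rw [Category.assoc, Category.assoc, hp₀', hs₀', hcX₀.lift_snd, Category.comp_id])
    (by
      refine hcY₀.hom_ext ?_ ?_
      · rw [Category.assoc, hq₀, ← Category.assoc, hs₀, Category.assoc, hsq, Category.comp_id, Category.id_comp]
      · rw [Category.assoc, hq₀', hs₀', Category.id_comp])
    t₀ (by
      refine hcX₀.hom_ext ?_ ?_
      · rw [Category.assoc, hp₀, ← Category.assoc, ht₀, Category.assoc, htp, Category.comp_id, Category.id_comp]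
      · rw [Category.assoc, hp₀', ht₀', Category.id_comp])
    (by
      refine hcY₀.hom_ext ?_ ?_
      · rw [Category.assoc, Category.assoc, hq₀, hy₀, ← Category.assoc, ht₀, Category.assoc, htq,
          ← Category.assoc, hcX₀.w, Category.assoc]
      · rw [Category.assoc, Category.assoc, hq₀', ht₀', hcY₀.lift_snd, Category.comp_id])
    (fun a => gP₀ ⁻¹ᵁ V a) (fun a => by
      show (gP₀ ≫ p) ⁻¹ᵁ U a.1 ⊓ (gP₀ ≫ q) ⁻¹ᵁ W a.2 = _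
      rw [← hp₀, ← hq₀]
      rfl)
    d (fun a b c => by
      rw [oRes_eq, oRes_eq, oRes_eq]
      exact S.cocycle hcP₀ hV hσ hh a b c)
    ⟨eS, fun a b => by rw [oRes_eq, oRes_eq]; exact heS a b⟩
    ⟨eT, fun a b => by rw [oRes_eq, oRes_eq]; exact heT a b⟩
  refine S.triv_of_coboundary hcP₀ hV hcov hσ hh e fun a b => ?_
  have h2 := he a b
  rw [oRes_eq, oRes_eq] at h2
  exact h2

end SmallExt

end Groth.Agent.CubeLib
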